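import Cfsg.Agent.H251.L34.Pure_m3
import Cfsg.Agent.ChevFast.E8
import Cfsg.Agent.H939.L16.Frm_m3
import Cfsg.Agent.FastGrp
import Cfsg.Agent.Prune
set_option linter.all false

section
prune_inst 0x7ffffffffff8ffffffff7e7ffefffffdffbb7fffefdff9cbffeee3ffafdf7f0acbe5fbaf8fea12fe1ff6e29411f97b53ffffffffec6ffc7ffffdfff41ffbffdfffff350d51bcb8b41ffa4fff8bf07fae7f3fffffffffffffffffffffffffffbeffffffffffff

-- part: H251/L34/TabDDat
section
set_option linter.all false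

/-!
# S5917, type D: the tables of the frame `D₄ T₄` (helper251)

Roots: index `s < 240` of `chevE8`, `239 - s` is the negative.  `(V1, V3)` : the values of the two generators of the
second orbit (`H251.L34.V3`); the character number `w` (`0 ≤ w < 8`) is `3 V1 + V3 = w + 1`.

* `DRL` : the 24 roots of value zero (`D₄`);
* `MTL` : entry `64 X + 8 w + k` : the root of type `X` (three 8-dimensional modules of `D₄`), character `w` and
  `D₄`-weight `k` (`7 - k` is the negative weight);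
* `DPL` : entry `3 w + i` : the three roots of character `w` orthogonal to `D₄`;
* `RTL` : entry `8 (24 X + b) + k` : the weight `k + ` root `b`, `8` if there is none;
* `NWL` : the negative character.
-/

set_option autoImplicit false
set_option maxRecDepth 100000

namespace Cfsg.Agent.H251.L34

open Cfsg Cfsg.Lie
open Cfsg.Agent.H413.L16 (tg)
open Cfsg.Agent.ChevalleyStructure.RootVec (rt)
open Cfsg.Agent.ChevalleyStructure.Columns (car cor)

/-- the roots of `D₄` -/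
def DRL : List ℕ :=
  [87, 91, 92, 96, 97, 98, 102, 103, 104, 108, 109, 113, 126, 130, 131, 135, 136, 137, 141, 142, 143, 147, 148, 152]

/-- the roots of the three 8-dimensional modules -/
def MTL : List ℕ :=
  [73, 45, 61, 64, 51, 54, 68, 35, 204, 171, 185, 188, 175, 178, 194, 166, 206, 173, 187, 190, 177, 180, 196, 168,
  36, 15, 21, 22, 16, 17, 26, 14, 205, 172, 186, 189, 176, 179, 195, 167, 71, 43, 59, 62, 49, 52, 66, 33, 72, 44,
  60, 63, 50, 53, 67, 34, 225, 213, 222, 223, 217, 218, 224, 203, 169, 170, 184, 163, 174, 162, 164, 165, 74, 75,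
  77, 65, 76, 55, 69, 70, 207, 210, 219, 191, 214, 181, 197, 200, 208, 211, 220, 192, 215, 182, 198, 201, 37, 40,
  56, 23, 46, 18, 27, 30, 39, 42, 58, 25, 48, 20, 29, 32, 209, 212, 221, 193, 216, 183, 199, 202, 38, 41, 57, 24,
  47, 19, 28, 31, 149, 144, 153, 156, 123, 127, 138, 132, 107, 101, 112, 116, 83, 86, 95, 90, 8, 7, 9, 10, 3, 4, 6,
  5, 150, 145, 154, 157, 124, 128, 139, 133, 151, 146, 155, 158, 125, 129, 140, 134, 234, 233, 235, 236, 229, 230,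
  232, 231, 105, 99, 110, 114, 81, 84, 93, 88, 106, 100, 111, 115, 82, 85, 94, 89]

/-- the roots orthogonal to `D₄` -/
def DPL : List ℕ :=
  [0, 120, 238, 239, 119, 1, 78, 121, 160, 11, 122, 226, 2, 159, 227, 161, 118, 79, 237, 80, 12, 228, 117, 13]

/-- the action of the roots of `D₄` on the weights -/
def RTL : List ℕ :=
  [1, 8, 8, 8, 8, 8, 7, 8, 4, 8, 8, 7, 8, 8, 8, 8, 5, 8, 7, 8, 8, 8, 8, 8, 2, 8, 8, 8, 8, 7, 8, 8, 3, 8, 8, 8, 7, 8,
  8, 8, 6, 7, 8, 8, 8, 8, 8, 8, 8, 8, 8, 1, 8, 8, 4, 8, 8, 8, 1, 8, 8, 8, 5, 8, 8, 8, 4, 5, 8, 8, 8, 8, 8, 8, 8, 8,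
  8, 1, 2, 8, 8, 8, 8, 8, 1, 8, 3, 8, 8, 8, 8, 2, 8, 4, 8, 8, 8, 8, 3, 8, 5, 8, 8, 8, 8, 4, 8, 6, 8, 8, 8, 8, 8, 5,
  6, 8, 8, 8, 8, 8, 8, 8, 8, 8, 2, 3, 8, 8, 8, 2, 8, 8, 8, 6, 8, 8, 8, 3, 8, 8, 6, 8, 8, 8, 8, 8, 8, 8, 8, 8, 0, 1,
  8, 8, 8, 0, 8, 8, 8, 4, 8, 8, 0, 8, 8, 8, 8, 5, 8, 8, 8, 8, 8, 0, 8, 2, 8, 8, 8, 8, 0, 8, 8, 3, 8, 0, 8, 8, 8, 8,
  8, 6, 8, 8, 3, 8, 5, 8, 8, 8, 8, 5, 6, 8, 8, 8, 8, 8, 5, 8, 7, 8, 8, 8, 8, 8, 8, 3, 8, 8, 6, 8, 8, 8, 3, 8, 8, 8,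
  7, 8, 8, 8, 6, 7, 8, 8, 8, 8, 8, 8, 8, 8, 0, 8, 8, 8, 8, 5, 8, 8, 1, 8, 8, 8, 5, 8, 8, 8, 4, 5, 8, 8, 8, 8, 8, 8,
  8, 8, 0, 8, 8, 3, 8, 8, 8, 8, 1, 8, 3, 8, 8, 0, 8, 8, 8, 8, 8, 6, 1, 8, 8, 8, 8, 8, 7, 8, 8, 4, 8, 6, 8, 8, 8, 8,
  4, 8, 8, 7, 8, 8, 8, 8, 8, 8, 8, 8, 2, 3, 8, 8, 8, 2, 8, 8, 8, 6, 8, 8, 2, 8, 8, 8, 8, 7, 8, 8, 8, 8, 8, 8, 8, 8,
  0, 1, 8, 8, 8, 0, 8, 8, 8, 4, 8, 8, 8, 1, 8, 8, 4, 8, 8, 8, 8, 8, 8, 0, 8, 2, 8, 8, 8, 8, 8, 1, 2, 8, 8, 8, 8, 2,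
  8, 4, 8, 8, 8, 8, 4, 5, 8, 8, 8, 8, 4, 8, 8, 7, 8, 8, 8, 8, 5, 8, 7, 8, 8, 8, 8, 8, 8, 4, 8, 6, 8, 8, 8, 8, 8, 5,
  6, 8, 8, 8, 8, 8, 6, 7, 8, 8, 8, 8, 8, 8, 8, 8, 8, 1, 8, 8, 4, 8, 8, 8, 1, 8, 8, 8, 5, 8, 1, 8, 8, 8, 8, 8, 7, 8,
  8, 8, 8, 0, 8, 8, 8, 4, 8, 8, 0, 8, 8, 8, 8, 5, 8, 8, 8, 2, 8, 4, 8, 8, 8, 8, 3, 8, 5, 8, 8, 8, 2, 8, 8, 8, 8, 7,
  8, 8, 3, 8, 8, 8, 7, 8, 8, 8, 8, 0, 8, 8, 8, 8, 8, 6, 8, 2, 8, 8, 8, 6, 8, 8, 8, 3, 8, 8, 6, 8, 8, 8, 8, 8, 8, 8,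
  8, 8, 0, 1, 8, 8, 8, 8, 8, 1, 2, 8, 8, 8, 8, 8, 1, 8, 3, 8, 8, 8, 8, 8, 8, 0, 8, 2, 8, 8, 8, 8, 0, 8, 8, 3, 8, 8,
  8, 8, 2, 3, 8, 8]

/-- the negative character -/
def NWL : List ℕ := [1, 0, 5, 7, 6, 2, 4, 3]

/-- the root number `b` of `D₄` -/
def dr (b : Fin 24) : ℕ := DRL.getD b 240

/-- the root of type `X`, character `w`, weight `k` -/
def mt (X : Fin 3) (w k : Fin 8) : ℕ := MTL.getD (64 * X + 8 * w + k) 240

/-- the roots orthogonal to `D₄` -/
def dp (w : Fin 8) (i : Fin 3) : ℕ := DPL.getD (3 * w + i) 240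

/-- the action of the root `b` on the weights of type `X` -/
def rtb (X : Fin 3) (b : Fin 24) (k : Fin 8) : ℕ := RTL.getD (8 * (24 * X + b) + k) 8

/-- the negative character -/
def nw (w : Fin 8) : Fin 8 := Fin.ofNat 8 (NWL.getD w 0)

/-- the value of `V3` on a root -/
def w3 (s : ℕ) : ZMod 3 := ∑ i : Fin 8, (![1, 0, 0, 0, 0, 1, 0, 1] : Fin 8 → ZMod 3) i * (rt chevE8 s i : ℤ)

end Cfsg.Agent.H251.L34
end

-- part: H251/L34/TabD
section
prune_inst 0x700000000018001000002004480001000023000111c00502080f5301a04107015e501e0081d6b6e04848c00000000139001000000000b600400200000caf0a243474be005b000740f804000000000000000000000000000000041000000000000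
set_option linter.all false
open scoped Cfsg.Agent.FastGrp

/-!
# S5917, type D: the roots of the frame `D₄ T₄` (helper251)

`root_cases` : every root is `dr b`, `mt X w k` or `dp w i`; values of `V1, V3`; the brackets of `er (dr b)` with the
root vectors of the three 8-dimensional modules of `D₄` (one table `rtb X` for all characters `w`), orthogonality of `D₄`
and `dp`.
-/

set_option autoImplicit false
set_option maxRecDepth 100000

namespace Cfsg.Agent.H251.L34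

open Cfsg Cfsg.Lie Cfsg.Lie.ChevalleyDatum
open Cfsg.Agent.ChevalleyStructure Cfsg.Agent.ChevalleyStructure.LieAbs
open Cfsg.Agent.ChevalleyStructure.Columns (car cor)
open Cfsg.Agent.H939.L64 Cfsg.Agent.H413.L16 Cfsg.Agent.H201.L34
open Cfsg.Agent.ChevalleyStructure.RootVec (rt)

/-! ### the tables as numbers -/

theorem getD_fld {L : List ℕ} {n b T : ℕ} (h : L = (List.range n).map (ChevFast.fldG b T)) {i : ℕ} (hi : i < n) (d : ℕ) :
    L.getD i d = ChevFast.fldG b T i := by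
  rw [h, List.getD_eq_getElem?_getD, List.getElem?_map, List.getElem?_range hi]
  rfl

/-- `MTL` as a number -/
def MTN : ℕ := 0x595e5552736f646a585d5451726e6369e7e8e6e5ecebe9ea868c817d9e9b9297858b807c9d9a9196050604030a0907085a5f56537470656b848a7f7b9c9990951f1c132f18392926cac7b7d8c1ddd4d1201d1430193a2a271e1b122e17382825c9c6b6d7c0dcd3d0c8c5b5d6bfdbd2cf4645374c414d4b4aa5a4a2aea3b8aaa9cbe0dad9dfded5e1224335323f3c2c48214234313e3b2b47a7c3b3b0bdbaaccd0e1a111016150f24a8c4b4b1bebbadcea6c2b2afbcb9abcc23443633403d2d49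

theorem MTL_fld {i : ℕ} (hi : i < 192) (d : ℕ) : MTL.getD i d = ChevFast.fldG 8 MTN i :=
  getD_fld (by decide +kernel) hi d

theorem dr_fld : dr = fun b => ChevFast.fldG 8 0x9894938f8e8d89888783827e716d6c6867666261605c5b57 b.1 :=
  funext fun b => getD_fld (by decide +kernel) b.2 _

theorem mt_fld : mt = fun X w k => ChevFast.fldG 8 MTN (Nat.add (Nat.add (Nat.mul 64 X.1) (Nat.mul 8 w.1)) k.1) := by
  funext X w k
  exact MTL_fld (i := 64 * X.1 + 8 * w.1 + k.1) (by omega) _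

theorem rtb_fld : rtb = fun X b k => ChevFast.fldG 4 0x883288883880888828088888838188888218888810888888888688388868882868888808888788838878888288858388884828885888808848880888878888818588818884881888888888768888865888886848888887858888788488885488884828888218888828088888848818884888088810888888887888828868882888328888888878848888684887888881688888088381888838808888888854888588818858888088888888768887888388868838888887858888865888858388688888083880888828088888588880884888088810888888888688388868882888328888888886588888684888858388884828888381888882188888888854888588818884881888888888768887888388788882888887858888788487888881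
    (Nat.add (Nat.mul 8 (Nat.add (Nat.mul 24 X.1) b.1)) k.1) := by
  have h : RTL = (List.range 576).map (ChevFast.fldG 4 0x883288883880888828088888838188888218888810888888888688388868882868888808888788838878888288858388884828885888808848880888878888818588818884881888888888768888865888886848888887858888788488885488884828888218888828088888848818884888088810888888887888828868882888328888888878848888684887888881688888088381888838808888888854888588818858888088888888768887888388868838888887858888865888858388688888083880888828088888588880884888088810888888888688388868882888328888888886588888684888858388884828888381888882188888888854888588818884881888888888768887888388788882888887858888788487888881) := by decide +kernel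
  funext X b k
  exact getD_fld h (i := 8 * (24 * X.1 + b.1) + k.1) (by omega) _

theorem tg_fld : tg = fun r s => ((ChevFast.ceT 2160 ChevFast.E8.tT r s).getD 0 (240, 0)).1 := by
  rw [← ChevFast.E8.chainEntry]
  funext r s
  delta tg row ChevalleyDatum.chainEntry
  have e : (fun e : ℕ × Array (ℕ × ℤ) => e.1 == s) = fun e => decide (e.1 = s) := rfl
  rw [e]
  cases (chevE8.chain.getD r #[]).toList.find? (fun e => decide (e.1 = s)) with
  | none => rfl
  | some e =>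
    obtain ⟨a, ⟨l⟩⟩ := e
    cases l <;> rfl

/-- the position of a root in the three tables -/
private def iv (s : ℕ) : ℕ := ChevFast.fldG 8 0xdbdaeac3c2c0c1c6c7c5c4ede6e3505653528a726a55548c746c51897169887068283820578f776f8e766e2e3e268b736b2b3b232a3a225a8d756d2d3d252c3c245c29392159582f3f275f5e5b5de7e0e5bbb39bbab29a17b8b0981615b9b199141312beb69e11100fbfb79f0e0dbdb59d0cbcb49ce2dfd9dce8eea3d3cb0ba2d2ca0a09a0d0c8080706a1d1c9050403a6d6ce0201a7d7cf00a5d5cda4d4ccebe9de6264616018484067661e4e46631b4b431a4a4282927a651d4d451c4c4484947c194941819179809078301f4f4787977f86967e3683937b333285957d35343137efece1abaaa8a9aeafadace4ddd8 s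

private theorem iv_mt : ∀ X w k, iv (mt X w k) = 24 + (64 * X.1 + 8 * w.1 + k.1) := by rw [mt_fld]; decide +kernel

private theorem iv_spec : ∀ s : Fin 240, (s : ℕ) = dr (Fin.ofNat 24 (iv s)) ∨
    (s : ℕ) = mt (Fin.ofNat 3 ((iv s - 24) / 64)) (Fin.ofNat 8 (iv s / 8 + 5)) (Fin.ofNat 8 (iv s)) ∨
    (s : ℕ) = dp (Fin.ofNat 8 (iv s / 3)) (Fin.ofNat 3 (iv s)) := by rw [mt_fld, dr_fld]; decide +kernel

theorem dr_lt : ∀ b, dr b < 240 := by decide +kernel

theorem mt_lt : ∀ X w k, mt X w k < 240 := by rw [mt_fld]; decide +kernel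

theorem root_cases' : ∀ s : Fin 240, (∃ b, (s : ℕ) = dr b) ∨ (∃ X w k, (s : ℕ) = mt X w k) ∨ ∃ w i, (s : ℕ) = dp w i :=
  fun s => (iv_spec s).imp (fun h => ⟨_, h⟩) fun h => h.imp (fun h => ⟨_, _, _, h⟩) fun h => ⟨_, _, h⟩

/-- **the roots** -/
theorem root_cases {s : ℕ} (hs : s < 240) : (∃ b, s = dr b) ∨ (∃ X w k, s = mt X w k) ∨ ∃ w i, s = dp w i :=
  root_cases' ⟨s, hs⟩

theorem dr_inj : Function.Injective dr := by decide +kernel

theorem mt_inj : ∀ X w k X' w' k', mt X w k = mt X' w' k' → X = X' ∧ w = w' ∧ k = k' := by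
  intro X w k X' w' k' h
  have e := iv_mt X w k
  rw [h, iv_mt] at e
  exact ⟨Fin.ext (by omega), Fin.ext (by omega), Fin.ext (by omega)⟩

/-- negatives -/
theorem neg_dr : ∀ b, ∃ b', 239 - dr b = dr b' := by decide +kernel

theorem nw_nw : ∀ w, nw (nw w) = w := by decide +kernel

/-- values -/
theorem val_dr : ∀ b, w1 (dr b) = 0 ∧ w3 (dr b) = 0 := by decide +kernel

theorem val_mt : ∀ X w k, w1 (mt X w k) = (((w : ℕ) + 1) / 3 : ℕ) ∧ w3 (mt X w k) = (((w : ℕ) + 1) % 3 : ℕ) := by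
  rw [mt_fld]; decide +kernel

theorem val_dp : ∀ w i, w1 (dp w i) = (((w : ℕ) + 1) / 3 : ℕ) ∧ w3 (dp w i) = (((w : ℕ) + 1) % 3 : ℕ) := by
  decide +kernel

/-! ### the action of `D₄` -/

theorem tg_dr_mt : ∀ X b w k, tg (dr b) (mt X w k) =
    (if h : rtb X b k < 8 then mt X w ⟨rtb X b k, h⟩ else 240) ∧ mt X w k ≠ 239 - dr b := by
  rw [tg_fld, mt_fld, dr_fld, rtb_fld]; decide +kernel

/-- **the root vectors of `D₄` on the 8-dimensional modules** -/
theorem br_dr_mt (X : Fin 3) (b : Fin 24) (w k : Fin 8) : brK (er (dr b)) (er (mt X w k)) =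
    if h : rtb X b k < 8 then er (mt X w ⟨rtb X b k, h⟩) else 0 := by
  obtain ⟨h1, h2⟩ := tg_dr_mt X b w k
  rw [br_rr (dr_lt b) (mt_lt X w k) h2, h1]
  split_ifs with h
  · rfl
  · exact er_ge le_rfl

/-- the parity of the product of the root `b` of `D₄` with the weight `k` -/
def cc (X : Fin 3) (b : Fin 24) (k : Fin 8) : Bool := decide ((∑ m : Fin 8, cor chevE8 (dr b) m * car chevE8 m (mt X 0 k)) % 2 ≠ 0)

end Cfsg.Agent.H251.L34
end

-- part: H942/DF/Sh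
section
prune_inst 0x70000000081800100000200448000100002300000080010208090300a04107001e10120080c6bec06008400000000100002000000000380000020000000802040040a200080000008000000000000000000000000000000000000000000000000
set_option linter.all false
open scoped Cfsg.Agent.FastGrp

/-!
# S5917, type D: an element normalising `E` of order dividing 4 preserves the types of the 8-dimensional modules (helper942)

Frame `(V1, V3)` (tables: helper251).  `t` = centre of the fixed algebra of `E` (4-dimensional, `hx x`), weights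
`lam X w` of `t` on the module of type `X` and character `w`.
* `keep` : `g` maps the module `(X, w)` to the module `(X, ν w)`;
* `t_act`, `z_fix` : the action on `t`.
-/

set_option autoImplicit false
set_option maxRecDepth 100000

namespace Cfsg.Agent.H942.DF

open Cfsg Cfsg.Lie Cfsg.Lie.ChevalleyDatum
open Cfsg.Agent.ChevalleyStructure Cfsg.Agent.ChevalleyStructure.LieAbs Cfsg.Agent.ChevalleyStructure.LieAut
open Cfsg.Agent.ChevalleyStructure.Columns (car cor)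
open Cfsg.Agent.ChevalleyStructure.RootVec (rt)
open Cfsg.Agent.H939.L64 Cfsg.Agent.H413.L16 Cfsg.Agent.H201.L34 Cfsg.Agent.H251.L34
open Cfsg.Agent.ChevalleyStructure.CoxeterGeom Cfsg.Agent.ChevalleyStructure.CoxeterGeomTypes
open Cfsg.Agent.Tits.Roots Cfsg.Agent.Nodes.Reps Cfsg.Agent.Nodes.BNOf Cfsg.Agent.Nodes.RGDChev
open Cfsg.Agent.KFacts.RgdChevCoord Cfsg.Agent.BpExc.TorChev Cfsg.Agent.BpExc.TowChev
open Cfsg.Agent.H129.TorusChar (cX)
open Cfsg.Agent.BpExc.RowsUntw (e8T)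
open Cfsg.Agent.H876.L64
open Cfsg.Agent.H413.L64 (charKK vl cX_eq_zpow zpow_val pow_inj_val)

/-! ### characters -/

/-- the first coordinate of a character -/
def ca (w : Fin 8) : ZMod 3 := (((w : ℕ) + 1) / 3 : ℕ)

/-- the second coordinate of a character -/
def cb (w : Fin 8) : ZMod 3 := (((w : ℕ) + 1) % 3 : ℕ)

theorem cab_inj : ∀ w w' : Fin 8, ca w = ca w' → cb w = cb w' → w = w' := by decide +kernel

theorem cab_ne : ∀ w : Fin 8, ca w = 0 → cb w = 0 → False := by decide +kernel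

/-! ### the frame -/

/-- the frame of `E` -/
structure EF (t1 t2 : ↥(chevE8.group KK)) (ζ : KK) : Prop where
  hζ : IsPrimitiveRoot ζ 3
  h1 : t1 ∈ TT chevE8 KK
  h2 : t2 ∈ TT chevE8 KK
  v1 : ∀ i, cX e8T t1 (sr i) = ζ ^ (V1 i).val
  v2 : ∀ i, cX e8T t2 (sr i) = ζ ^ (V3 i).val

theorem cX_vec {t : ↥(chevE8.group KK)} {ζ : KK} (hζ : IsPrimitiveRoot ζ 3) (ht : t ∈ TT chevE8 KK)
    {V : Fin 8 → ZMod 3} (hv : ∀ i, cX e8T t (sr i) = ζ ^ (V i).val) (s : ℕ) :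
    cX e8T t (vec chevE8 8 s) = ζ ^ ((∑ i : Fin 8, V i * (rt chevE8 s i : ℤ)) : ZMod 3).val := by
  have h1 := cX_eq_zpow ht (hζ.ne_zero (by norm_num)) hv (vec chevE8 8 s)
  have h3 : ((vl V (vec chevE8 8 s) : ℤ) : ZMod 3) = ∑ i : Fin 8, V i * (rt chevE8 s i : ℤ) := by
    unfold vl
    push_cast
    refine Finset.sum_congr rfl fun i _ => ?_
    rw [ZMod.natCast_zmod_val, mul_comm]
    rfl
  rw [h1, zpow_val hζ, h3]

variable {t1 t2 : ↥(chevE8.group KK)} {ζ : KK}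

theorem EF.c1 (h : EF t1 t2 ζ) (v : LK) (s : Fin chevE8.nroots) :
    aK t1 v (Sum.inr s) = ζ ^ (w1 s).val * v (Sum.inr s) := by
  rw [aK_tor h.h1]
  show cX e8T t1 (vec chevE8 8 s) * _ = _
  rw [cX_vec h.hζ h.h1 h.v1]
  rfl

theorem EF.c2 (h : EF t1 t2 ζ) (v : LK) (s : Fin chevE8.nroots) :
    aK t2 v (Sum.inr s) = ζ ^ (w3 s).val * v (Sum.inr s) := by
  rw [aK_tor h.h2]
  show cX e8T t2 (vec chevE8 8 s) * _ = _
  rw [cX_vec h.hζ h.h2 h.v2]
  rfl

theorem EF.l1 (h : EF t1 t2 ζ) (v : LK) (i : Fin chevE8.rank) : aK t1 v (Sum.inl i) = v (Sum.inl i) := by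
  rw [aK_tor h.h1]
  exact one_mul _

theorem EF.l2 (h : EF t1 t2 ζ) (v : LK) (i : Fin chevE8.rank) : aK t2 v (Sum.inl i) = v (Sum.inl i) := by
  rw [aK_tor h.h2]
  exact one_mul _

/-- the eigenspaces of the pair -/
def VV (t1 t2 : ↥(chevE8.group KK)) (ζ : KK) (a b : ZMod 3) (v : LK) : Prop :=
  aK t1 v = ζ ^ a.val • v ∧ aK t2 v = ζ ^ b.val • v

theorem EF.root (h : EF t1 t2 ζ) {a b : ZMod 3} {v : LK} (hv : VV t1 t2 ζ a b v) {s : Fin chevE8.nroots}
    (hs : v (Sum.inr s) ≠ 0) : w1 s = a ∧ w3 s = b := by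
  have e1 := congrFun hv.1 (Sum.inr s)
  have e2 := congrFun hv.2 (Sum.inr s)
  rw [h.c1, Pi.smul_apply, smul_eq_mul] at e1
  rw [h.c2, Pi.smul_apply, smul_eq_mul] at e2
  exact ⟨(pow_inj_val h.hζ).1 (mul_right_cancel₀ hs e1), (pow_inj_val h.hζ).1 (mul_right_cancel₀ hs e2)⟩

theorem EF.cart (h : EF t1 t2 ζ) {a b : ZMod 3} {v : LK} (hv : VV t1 t2 ζ a b v) {i : Fin chevE8.rank}
    (hi : v (Sum.inl i) ≠ 0) : a = 0 ∧ b = 0 := by
  have e1 := congrFun hv.1 (Sum.inl i)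
  have e2 := congrFun hv.2 (Sum.inl i)
  rw [h.l1, Pi.smul_apply, smul_eq_mul] at e1
  rw [h.l2, Pi.smul_apply, smul_eq_mul] at e2
  have k : ∀ c : ZMod 3, v (Sum.inl i) = ζ ^ c.val * v (Sum.inl i) → c = 0 := by
    intro c hc
    have h3 : ζ ^ (0 : ZMod 3).val * v (Sum.inl i) = ζ ^ c.val * v (Sum.inl i) := by
      rw [ZMod.val_zero, pow_zero, one_mul]; exact hc
    exact ((pow_inj_val h.hζ).1 (mul_right_cancel₀ hi h3)).symm
  exact ⟨k a e1, k b e2⟩

theorem EF.of (h : EF t1 t2 ζ) {a b : ZMod 3} {v : LK} (k1 : ∀ i, v (Sum.inl i) ≠ 0 → a = 0 ∧ b = 0)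
    (k2 : ∀ s : Fin chevE8.nroots, v (Sum.inr s) ≠ 0 → w1 s = a ∧ w3 s = b) : VV t1 t2 ζ a b v := by
  constructor
  · funext j
    rw [Pi.smul_apply, smul_eq_mul]
    rcases j with i | s
    · rw [h.l1]
      by_cases h0 : v (Sum.inl i) = 0
      · rw [h0, mul_zero]
      · rw [(k1 i h0).1, ZMod.val_zero, pow_zero, one_mul]
    · rw [h.c1]
      by_cases h0 : v (Sum.inr s) = 0
      · rw [h0, mul_zero, mul_zero]
      · rw [(k2 s h0).1]
  · funext j
    rw [Pi.smul_apply, smul_eq_mul]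
    rcases j with i | s
    · rw [h.l2]
      by_cases h0 : v (Sum.inl i) = 0
      · rw [h0, mul_zero]
      · rw [(k1 i h0).2, ZMod.val_zero, pow_zero, one_mul]
    · rw [h.c2]
      by_cases h0 : v (Sum.inr s) = 0
      · rw [h0, mul_zero, mul_zero]
      · rw [(k2 s h0).2]

/-! ### coordinates -/

theorem er_inl (s : ℕ) (i : Fin chevE8.rank) : er s (Sum.inl i) = 0 := by
  unfold er
  split_ifs with h
  · exact Pi.single_eq_of_ne (by simp) _
  · rfl

theorem hv_inl (c : Fin chevE8.rank → KK) (i : Fin chevE8.rank) : hv c (Sum.inl i) = c i := rfl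

theorem hv_inr (c : Fin chevE8.rank → KK) (s : Fin chevE8.nroots) : hv c (Sum.inr s) = 0 := rfl

theorem EF.hvM (h : EF t1 t2 ζ) (c : Fin chevE8.rank → KK) : VV t1 t2 ζ 0 0 (hv c) :=
  h.of (fun _ _ => ⟨rfl, rfl⟩) (fun s hs => absurd (hv_inr c s) hs)

theorem EF.drM (h : EF t1 t2 ζ) (b : Fin 24) : VV t1 t2 ζ 0 0 (er (dr b)) := by
  refine h.of (fun _ _ => ⟨rfl, rfl⟩) (fun s hs => ?_)
  have e : (dr b) = s := by
    by_contra hc
    exact hs (by rw [er_inr, if_neg hc])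
  rw [← e]
  exact val_dr b

/-- a basis of `t` -/
def HB : Fin 4 → Fin 8 → ℤ :=
  ![![0, 0, 0, 0, 0, 0, 0, 1], ![0, 0, 0, 0, 0, 0, 1, 0], ![0, 0, 1, 0, 1, 0, 0, 0], ![0, 1, 0, 0, 1, 0, 0, 0]]

/-- the elements of `t` -/
noncomputable def hx (x : Fin 4 → KK) : LK := hv fun i : Fin chevE8.rank => ∑ m, x m * ((HB m i : ℤ) : KK)

/-- the weights of the roots -/
def pm (m : Fin 4) (s : ℕ) : ℤ := ∑ i : Fin 8, HB m i * car chevE8 i s

/-- the weights of the modules -/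
def PT : Fin 3 → Fin 8 → Fin 4 → ℤ :=
  ![![![0, 1, 0, 1], ![0, 1, 0, 1], ![1, 0, 0, 1], ![0, 0, 0, 1], ![1, 1, 0, 1], ![1, 0, 0, 1], ![1, 1, 0, 1], ![0, 0, 0, 1]],
    ![![0, 0, 1, 0], ![0, 0, 1, 0], ![1, 0, 1, 0], ![1, 1, 1, 0], ![0, 1, 1, 0], ![1, 0, 1, 0], ![0, 1, 1, 0], ![1, 1, 1, 0]],
    ![![0, 1, 1, 1], ![0, 1, 1, 1], ![0, 0, 1, 1], ![1, 1, 1, 1], ![1, 0, 1, 1], ![0, 0, 1, 1], ![1, 0, 1, 1], ![1, 1, 1, 1]]]

theorem pm_mt : ∀ X w k m, (pm m (mt X w k) - PT X w m) % 2 = 0 := by (rw [mt_fld]; delta Cfsg.Agent.ChevalleyStructure.Columns.car Cfsg.Agent.H942.DF.pm; (try set_option simprocs false in simp -zeta only [Cfsg.Agent.ChevFast.E8.cartanR]); decide +kernel)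

theorem pm_dr : ∀ b m, pm m (dr b) % 2 = 0 := by (delta Cfsg.Agent.ChevalleyStructure.Columns.car Cfsg.Agent.H942.DF.pm; (try set_option simprocs false in simp -zeta only [Cfsg.Agent.ChevFast.E8.cartanR]); decide +kernel)

theorem pm_dp : ∀ w i, pm 2 (dp w i) % 2 = 0 ∧ pm 3 (dp w i) % 2 = 0 := by (delta Cfsg.Agent.ChevalleyStructure.Columns.car Cfsg.Agent.H942.DF.pm; (try set_option simprocs false in simp -zeta only [Cfsg.Agent.ChevFast.E8.cartanR]); decide +kernel)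

theorem br_hx (x : Fin 4 → KK) (u : LK) (s : Fin chevE8.nroots) :
    brK (hx x) u (Sum.inr s) = (∑ m, x m * ((pm m s : ℤ) : KK)) * u (Sum.inr s) := by
  unfold hx hv
  rw [h_br]
  show (∑ i : Fin 8, (∑ m, x m * ((HB m i : ℤ) : KK)) * ((car chevE8 i s : ℤ) : KK)) * u (Sum.inr s) = _
  refine congrArg (· * u (Sum.inr s)) ?_
  unfold pm
  push_cast
  simp_rw [Finset.sum_mul, Finset.mul_sum]
  rw [Finset.sum_comm]
  refine Finset.sum_congr rfl fun m _ => Finset.sum_congr rfl fun i _ => ?_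
  ring

theorem br_hx_inl (x : Fin 4 → KK) (u : LK) (i : Fin chevE8.rank) : brK (hx x) u (Sum.inl i) = 0 := by
  unfold hx hv
  rw [h_br]
  rfl

theorem br_hv_inr (c : Fin chevE8.rank → KK) (u : LK) (s : Fin chevE8.nroots) :
    brK (hv c) u (Sum.inr s) = (∑ i, c i * ((car chevE8 i s : ℤ) : KK)) * u (Sum.inr s) := by
  unfold hv
  rw [h_br]
  rfl

/-! ### the centre `t` -/

/-- the centre of the fixed algebra -/
def TZ (t1 t2 : ↥(chevE8.group KK)) (ζ : KK) (v : LK) : Prop :=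
  VV t1 t2 ζ 0 0 v ∧ ∀ m, VV t1 t2 ζ 0 0 m → brK v m = 0

theorem zero_cases {s : ℕ} (hs : s < 240) (h1 : w1 s = 0) (h3 : w3 s = 0) : ∃ b, s = dr b := by
  rcases root_cases hs with h | ⟨X, w, k, h⟩ | ⟨w, i, h⟩
  · exact h
  · exfalso
    obtain ⟨e1, e3⟩ := val_mt X w k
    rw [← h] at e1 e3
    exact cab_ne w (e1.symm.trans h1) (e3.symm.trans h3)
  · exfalso
    obtain ⟨e1, e3⟩ := val_dp w i
    rw [← h] at e1 e3
    exact cab_ne w (e1.symm.trans h1) (e3.symm.trans h3)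

theorem slt (s : Fin chevE8.nroots) : (s : ℕ) < 240 := by
  exact lt_of_lt_of_eq s.2 nr

theorem EF.hx_mem (h : EF t1 t2 ζ) (x : Fin 4 → KK) : TZ t1 t2 ζ (hx x) := by
  refine ⟨h.hvM _, fun m hm => ?_⟩
  funext j
  rcases j with i | s
  · exact br_hx_inl x m i
  · rw [br_hx]
    by_cases h0 : m (Sum.inr s) = 0
    · rw [h0, mul_zero]; rfl
    · obtain ⟨e1, e3⟩ := h.root hm h0
      obtain ⟨b, hb⟩ := zero_cases (slt s) e1 e3
      have : ∑ m : Fin 4, x m * ((pm m s : ℤ) : KK) = 0 := by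
        refine Finset.sum_eq_zero fun m _ => ?_
        rw [hb, cast_even (pm_dr b m), mul_zero]
      rw [this, zero_mul]; rfl

theorem car_tab : (∀ i : Fin 8, car chevE8 i 141 = (![0, 2, 0, -1, 0, 0, 0, 0] : Fin 8 → ℤ) i) ∧
    (∀ i : Fin 8, car chevE8 i 135 = (![-1, 0, 2, -1, 0, 0, 0, 0] : Fin 8 → ℤ) i) ∧
    (∀ i : Fin 8, car chevE8 i 130 = (![0, -1, -1, 2, -1, 0, 0, 0] : Fin 8 → ℤ) i) ∧
    ∀ i : Fin 8, car chevE8 i 126 = (![0, 0, 0, -1, 2, -1, 0, 0] : Fin 8 → ℤ) i := by (delta Cfsg.Agent.ChevalleyStructure.Columns.car; (try set_option simprocs false in simp -zeta only [Cfsg.Agent.ChevFast.E8.cartanR]); decide +kernel)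

theorem dr_tab : dr 18 = 141 ∧ dr 15 = 135 ∧ dr 13 = 130 ∧ dr 12 = 126 := by decide

theorem odd_car (s : Fin chevE8.nroots) : ∃ i : Fin chevE8.rank, car chevE8 i s % 2 ≠ 0 := by
  have ho := List.all_eq_true.1 odd_all s (List.mem_range.2 (slt s))
  rw [List.any_eq_true] at ho
  obtain ⟨i, hi1, hi⟩ := ho
  have hi := of_decide_eq_true hi
  exact ⟨⟨i, lt_of_lt_of_eq (List.mem_range.1 hi1) rk8.symm⟩, hi⟩

theorem EF.exists_hx (h : EF t1 t2 ζ) {v : LK} (hv' : TZ t1 t2 ζ v) : ∃ x, v = hx x := by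
  have k1 : ∀ s : Fin chevE8.nroots, v (Sum.inr s) = 0 := by
    intro s
    obtain ⟨i, hi⟩ := odd_car s
    have e := hv'.2 (hv (Pi.single (M := fun _ => KK) i 1)) (h.hvM _)
    rw [br_comm] at e
    have e2 := congrFun e (Sum.inr s)
    rw [br_hv_inr, Finset.sum_eq_single i] at e2
    · rw [Pi.single_eq_same, one_mul, cast_odd hi, one_mul] at e2
      exact e2
    · intro b _ hb
      rw [Pi.single_eq_of_ne hb, zero_mul]
    · intro h; exact absurd (Finset.mem_univ _) h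
  set c : Fin 8 → KK := fun i => v (Sum.inl i) with hc
  have hvc : v = hv c := by
    funext j
    rcases j with i | s
    · rfl
    · exact k1 s
  have k2 : ∀ b : Fin 24, ∑ i : Fin 8, c i * ((car chevE8 i (dr b) : ℤ) : KK) = 0 := by
    intro b
    have e := hv'.2 (er (dr b)) (h.drM b)
    rw [hvc] at e
    have hb : dr b < chevE8.nroots := by rw [nr]; exact dr_lt b
    have e2 := congrFun e (Sum.inr ⟨dr b, hb⟩)
    have e3 := br_hv_inr c (er (dr b)) ⟨dr b, hb⟩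
    rw [er_inr, if_pos rfl, mul_one] at e3
    exact e3.symm.trans e2
  obtain ⟨d1, d2, d3, d4⟩ := dr_tab
  obtain ⟨a1, a2, a3, a4⟩ := car_tab
  have q1 := k2 18
  have q2 := k2 15
  have q3 := k2 13
  have q4 := k2 12
  rw [d1] at q1
  rw [d2] at q2
  rw [d3] at q3
  rw [d4] at q4
  simp_rw [a1] at q1
  simp_rw [a2] at q2
  simp_rw [a3] at q3
  simp_rw [a4] at q4
  have two : (2 : KK) = 0 := by
    have := charKK
    exact CharTwo.two_eq_zero
  have neg1 : ∀ y : KK, -y = y := fun y => by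
    have := charKK
    exact CharTwo.neg_eq y
  simp [Fin.sum_univ_eight, two, neg1] at q1 q2 q3 q4
  rw [q1] at q2 q4
  rw [add_zero] at q2
  rw [zero_add] at q4
  have q5 : c 4 = c 2 + c 1 := by
    have e : c 4 = c 4 + (c 1 + c 2 + c 4) := by rw [q3, add_zero]
    rw [e]
    have e2 : c 4 + (c 1 + c 2 + c 4) = (c 4 + c 4) + (c 2 + c 1) := by ring
    have := charKK
    rw [e2, CharTwo.add_self_eq_zero, zero_add]
  refine ⟨![c 7, c 6, c 2, c 1], ?_⟩
  rw [hvc]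
  unfold hx
  congr 1
  funext i
  fin_cases i <;> simp [Fin.sum_univ_four, HB, q1, q2, q4, q5]

end Cfsg.Agent.H942.DF

private theorem dce_e5c0a92a8a00 : _root_.True := by
  try have : _root_.True := by simp only [_root_.Cfsg.Agent.H942.DF.HB.eq_1]
  exact _root_.True.intro
end

-- part: H942/DF/Sh2
section
prune_inst 0x600000000000001000000000000000000000400000c000020809400180000000121000000082848060080000000000290020000000000e00000000000880020030400000420007008800000000000000000000000000000000000000000000000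
set_option linter.all false
open scoped Cfsg.Agent.FastGrp

/-!
# S5917, type D: the types of the 8-dimensional modules are preserved, part 2 (helper942)

* `Mp` : the derived algebra of the fixed algebra; `Z2` (`x 0 = x 1 = 0`);
* `NG` : an element permuting the eigenspaces of `E` by `ν`; `exists_y` : its action on `t`;
* `keep` : the types are preserved.
-/

set_option autoImplicit false
set_option maxRecDepth 100000

namespace Cfsg.Agent.H942.DF

open Cfsg Cfsg.Lie Cfsg.Lie.ChevalleyDatum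
open Cfsg.Agent.ChevalleyStructure Cfsg.Agent.ChevalleyStructure.LieAbs Cfsg.Agent.ChevalleyStructure.LieAut
open Cfsg.Agent.ChevalleyStructure.Columns (car cor)
open Cfsg.Agent.H939.L64 Cfsg.Agent.H413.L16 Cfsg.Agent.H201.L34 Cfsg.Agent.H251.L34
open Cfsg.Agent.H876.L64
open Cfsg.Agent.H413.L64 (charKK)

variable {t1 t2 : ↥(chevE8.group KK)} {ζ : KK}

theorem aK_mul' (g h : ↥(chevE8.group KK)) (v : LK) : aK (g * h) v = aK g (aK h v) := by
  show (((g * h : ↥(chevE8.group KK)) : GL chevE8.Idx KK) : Matrix chevE8.Idx chevE8.Idx KK).mulVec v = _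
  rw [Subgroup.coe_mul, Units.val_mul]
  exact (Matrix.mulVec_mulVec _ _ _).symm

theorem aK_one' (v : LK) : aK 1 v = v := by
  show (((1 : ↥(chevE8.group KK)) : GL chevE8.Idx KK) : Matrix chevE8.Idx chevE8.Idx KK).mulVec v = _
  rw [Subgroup.coe_one, Units.val_one]
  exact Matrix.one_mulVec _

theorem aK_inv_r (g : ↥(chevE8.group KK)) (v : LK) : aK g (aK g⁻¹ v) = v := by
  rw [← aK_mul', mul_inv_cancel, aK_one']

theorem aK_inv_l (g : ↥(chevE8.group KK)) (v : LK) : aK g⁻¹ (aK g v) = v := by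
  rw [← aK_mul', inv_mul_cancel, aK_one']

/-! ### the derived algebra -/

/-- the derived algebra of the fixed algebra -/
noncomputable def Mp (t1 t2 : ↥(chevE8.group KK)) (ζ : KK) : Submodule KK LK :=
  Submodule.span KK {u | ∃ a b, VV t1 t2 ζ 0 0 a ∧ VV t1 t2 ζ 0 0 b ∧ brK a b = u}

/-- the generators of the fixed algebra -/
def G0 : Set LK := {u | (∃ c, u = hv c) ∨ ∃ b, u = er (dr b)}

theorem EF.mem_span (h : EF t1 t2 ζ) {v : LK} (hm : VV t1 t2 ζ 0 0 v) : v ∈ Submodule.span KK G0 := by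
  have e : v = hv (fun i => v (Sum.inl i)) + ∑ s : Fin chevE8.nroots, v (Sum.inr s) • er s := by
    funext j
    rw [Pi.add_apply, Finset.sum_apply]
    rcases j with i | s
    · rw [hv_inl, Finset.sum_eq_zero, add_zero]
      intro s _
      rw [Pi.smul_apply, er_inl, smul_zero]
    · rw [hv_inr, zero_add, Finset.sum_eq_single s]
      · rw [Pi.smul_apply, er_inr, if_pos rfl, smul_eq_mul, mul_one]
      · intro b _ hb
        rw [Pi.smul_apply, er_inr, if_neg (fun h => hb (Fin.ext h)), smul_zero]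
      · intro h; exact absurd (Finset.mem_univ _) h
  rw [e]
  refine add_mem (Submodule.subset_span (Or.inl ⟨_, rfl⟩)) (sum_mem fun s _ => ?_)
  by_cases h0 : v (Sum.inr s) = 0
  · rw [h0, zero_smul]; exact zero_mem _
  · obtain ⟨e1, e3⟩ := h.root hm h0
    obtain ⟨b, hb⟩ := zero_cases (slt s) e1 e3
    rw [hb]
    exact Submodule.smul_mem _ _ (Submodule.subset_span (Or.inr ⟨b, rfl⟩))

/-- the vectors without `h₇`, `h₈` -/
noncomputable def N67 : Submodule KK LK where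
  carrier := {v | v (Sum.inl ⟨6, by rw [rk8]; norm_num⟩) = 0 ∧ v (Sum.inl ⟨7, by rw [rk8]; norm_num⟩) = 0}
  add_mem' := fun {a b} ha hb => ⟨by rw [Pi.add_apply, ha.1, hb.1, add_zero], by rw [Pi.add_apply, ha.2, hb.2, add_zero]⟩
  zero_mem' := ⟨rfl, rfl⟩
  smul_mem' := fun c x hx => ⟨by rw [Pi.smul_apply, hx.1, smul_zero], by rw [Pi.smul_apply, hx.2, smul_zero]⟩

theorem er_N67 (s : ℕ) : er s ∈ N67 := ⟨er_inl _ _, er_inl _ _⟩

theorem cor_67 : ∀ b, cor chevE8 (dr b) 6 = 0 ∧ cor chevE8 (dr b) 7 = 0 := by (delta Cfsg.Agent.ChevalleyStructure.Columns.cor; rewrite [Cfsg.Agent.ChevFast.E8.coroot]; decide +kernel)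

theorem br_G0 : ∀ x ∈ G0, ∀ y ∈ G0, brM x y ∈ N67 := by
  rintro x (⟨c, rfl⟩ | ⟨b, rfl⟩) y (⟨c', rfl⟩ | ⟨b', rfl⟩)
  · show brK _ _ ∈ _
    rw [br_hh]; exact zero_mem _
  · show brK _ _ ∈ _
    rw [br_hv _ (dr_lt b')]
    exact Submodule.smul_mem _ _ (er_N67 _)
  · show brK _ _ ∈ _
    rw [br_comm, br_hv _ (dr_lt b)]
    exact Submodule.smul_mem _ _ (er_N67 _)
  · show brK _ _ ∈ _
    by_cases hn : dr b' = 239 - dr b
    · rw [hn, br_neg (dr_lt b)]
      constructor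
      · show ((cor chevE8 (dr b) 6 : ℤ) : KK) = 0
        rw [(cor_67 b).1, Int.cast_zero]
      · show ((cor chevE8 (dr b) 7 : ℤ) : KK) = 0
        rw [(cor_67 b).2, Int.cast_zero]
    · rw [br_rr (dr_lt b) (dr_lt b') hn]
      exact er_N67 _

theorem EF.Mp_le (h : EF t1 t2 ζ) : Mp t1 t2 ζ ≤ N67 := by
  refine Submodule.span_le.2 ?_
  rintro _ ⟨a, b, ha, hb, rfl⟩
  exact LinearMap.BilinMap.apply_apply_mem_of_mem_span N67 G0 G0 brM br_G0 a b (h.mem_span ha) (h.mem_span hb)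

theorem EF.Z2_of (h : EF t1 t2 ζ) {x : Fin 4 → KK} (hx' : hx x ∈ Mp t1 t2 ζ) : x 0 = 0 ∧ x 1 = 0 := by
  obtain ⟨h6, h7⟩ := h.Mp_le hx'
  have e6 : ∑ m, x m * ((HB m 6 : ℤ) : KK) = 0 := h6
  have e7 : ∑ m, x m * ((HB m 7 : ℤ) : KK) = 0 := h7
  rw [Fin.sum_univ_four] at e6 e7
  simp [HB] at e6 e7
  exact ⟨e7, e6⟩

theorem cor_tab : ∀ i : Fin 8, cor chevE8 135 i + cor chevE8 126 i = HB 2 i ∧ cor chevE8 141 i + cor chevE8 126 i = HB 3 i := by
  (delta Cfsg.Agent.ChevalleyStructure.Columns.cor; rewrite [Cfsg.Agent.ChevFast.E8.coroot]; decide +kernel)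

theorem EF.hr_mem (h : EF t1 t2 ζ) (b : Fin 24) : hr (dr b) ∈ Mp t1 t2 ζ := by
  obtain ⟨b', hb'⟩ := neg_dr b
  refine Submodule.subset_span ⟨er (dr b), er (dr b'), h.drM b, h.drM b', ?_⟩
  rw [← hb', br_neg (dr_lt b)]

theorem hx_eq {x : Fin 4 → KK} (h0 : x 0 = 0) (h1 : x 1 = 0) :
    hx x = x 2 • (hr 135 + hr 126) + x 3 • (hr 141 + hr 126) := by
  funext j
  rcases j with i | s
  · have e1 : ((cor chevE8 135 i : ℤ) : KK) + ((cor chevE8 126 i : ℤ) : KK) = ((HB 2 i : ℤ) : KK) := by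
      rw [← Int.cast_add, (cor_tab i).1]
    have e2 : ((cor chevE8 141 i : ℤ) : KK) + ((cor chevE8 126 i : ℤ) : KK) = ((HB 3 i : ℤ) : KK) := by
      rw [← Int.cast_add, (cor_tab i).2]
    show ∑ m, x m * ((HB m i : ℤ) : KK) = x 2 * (((cor chevE8 135 i : ℤ) : KK) + ((cor chevE8 126 i : ℤ) : KK)) +
      x 3 * (((cor chevE8 141 i : ℤ) : KK) + ((cor chevE8 126 i : ℤ) : KK))
    rw [Fin.sum_univ_four, h0, h1, e1, e2, zero_mul, zero_mul, zero_add, zero_add]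
  · show (0 : KK) = x 2 * (0 + 0) + x 3 * (0 + 0)
    ring

theorem EF.Z2_mem (h : EF t1 t2 ζ) {x : Fin 4 → KK} (h0 : x 0 = 0) (h1 : x 1 = 0) : hx x ∈ Mp t1 t2 ζ := by
  rw [hx_eq h0 h1]
  have d := dr_tab
  have e1 := h.hr_mem 15
  have e2 := h.hr_mem 12
  have e3 := h.hr_mem 18
  rw [d.2.1] at e1
  rw [d.2.2.2] at e2
  rw [d.1] at e3
  exact add_mem (Submodule.smul_mem _ _ (add_mem e1 e2)) (Submodule.smul_mem _ _ (add_mem e3 e2))

/-! ### the modules -/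

/-- the module of type `X` and character `w` -/
def IX (X : Fin 3) (w : Fin 8) (v : LK) : Prop :=
  (∀ i, v (Sum.inl i) = 0) ∧ ∀ s : Fin chevE8.nroots, v (Sum.inr s) ≠ 0 → ∃ k, (s : ℕ) = _root_.Cfsg.Agent.H251.L34.mt X w k

theorem EF.ix (h : EF t1 t2 ζ) {X : Fin 3} {w : Fin 8} {v : LK} (hv' : IX X w v) : VV t1 t2 ζ (ca w) (cb w) v := by
  refine h.of (fun i hi => absurd (hv'.1 i) hi) (fun s hs => ?_)
  obtain ⟨k, hk⟩ := hv'.2 s hs
  rw [hk]
  exact val_mt X w k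

/-- the weights of `t` on the modules -/
noncomputable def lam (X : Fin 3) (w : Fin 8) (x : Fin 4 → KK) : KK := ∑ m, x m * ((PT X w m : ℤ) : KK)

theorem sum_pm (X : Fin 3) (w k : Fin 8) (x : Fin 4 → KK) : ∑ m, x m * ((pm m (_root_.Cfsg.Agent.H251.L34.mt X w k) : ℤ) : KK) = lam X w x :=
  Finset.sum_congr rfl fun m _ => by rw [cast_congr (pm_mt X w k m)]

theorem IX.br {X : Fin 3} {w : Fin 8} {v : LK} (hv' : IX X w v) (x : Fin 4 → KK) : brK (hx x) v = lam X w x • v := by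
  funext j
  rcases j with i | s
  · rw [br_hx_inl, Pi.smul_apply, hv'.1, smul_zero]
  · rw [br_hx, Pi.smul_apply, smul_eq_mul]
    by_cases h0 : v (Sum.inr s) = 0
    · rw [h0, mul_zero, mul_zero]
    · obtain ⟨k, hk⟩ := hv'.2 s h0
      rw [hk, sum_pm]

theorem IX_er (X : Fin 3) (w k : Fin 8) : IX X w (er (_root_.Cfsg.Agent.H251.L34.mt X w k)) := by
  refine ⟨fun i => er_inl _ i, fun s hs => ⟨k, ?_⟩⟩
  by_contra hc
  exact hs (by rw [er_inr, if_neg fun h => hc h.symm])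

theorem er_ne {s : ℕ} (hs : s < 240) : er s ≠ 0 := by
  intro h
  have h1 := congrFun h (Sum.inr ⟨s, by rw [nr]; exact hs⟩)
  rw [er_inr, if_pos rfl] at h1
  exact one_ne_zero h1

/-! ### an element normalising `E` -/

/-- an element permuting the eigenspaces of `E` -/
structure NG (t1 t2 : ↥(chevE8.group KK)) (ζ : KK) (g : ↥(chevE8.group KK)) (ν : Fin 8 → Fin 8) : Prop where
  m : ∀ v, VV t1 t2 ζ 0 0 v → VV t1 t2 ζ 0 0 (aK g v)
  m' : ∀ v, VV t1 t2 ζ 0 0 v → VV t1 t2 ζ 0 0 (aK g⁻¹ v)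
  w : ∀ w v, VV t1 t2 ζ (ca w) (cb w) v → VV t1 t2 ζ (ca (ν w)) (cb (ν w)) (aK g v)

variable {g : ↥(chevE8.group KK)} {ν : Fin 8 → Fin 8}

theorem NG.tz (n : NG t1 t2 ζ g ν) {v : LK} (hv' : TZ t1 t2 ζ v) : TZ t1 t2 ζ (aK g v) := by
  refine ⟨n.m v hv'.1, fun m hm => ?_⟩
  have e := hv'.2 _ (n.m' m hm)
  have e2 := congrArg (aK g) e
  rw [aK_brK, aK_inv_r, aK_zero] at e2
  exact e2

theorem NG.tz' (n : NG t1 t2 ζ g ν) {v : LK} (hv' : TZ t1 t2 ζ v) : TZ t1 t2 ζ (aK g⁻¹ v) := by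
  refine ⟨n.m' v hv'.1, fun m hm => ?_⟩
  have e := hv'.2 _ (n.m m hm)
  have e2 := congrArg (aK g⁻¹) e
  rw [aK_brK, aK_inv_l, aK_zero] at e2
  exact e2

theorem NG.mp (n : NG t1 t2 ζ g ν) {v : LK} (hv' : v ∈ Mp t1 t2 ζ) : aK g v ∈ Mp t1 t2 ζ := by
  unfold Mp at hv'
  induction hv' using Submodule.span_induction with
  | mem u hu =>
    obtain ⟨a, b, ha, hb, rfl⟩ := hu
    rw [aK_brK]
    exact Submodule.subset_span ⟨_, _, n.m a ha, n.m b hb, rfl⟩
  | zero => rw [aK_zero]; exact zero_mem _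
  | add x y _ _ hx hy => rw [aK_add]; exact add_mem hx hy
  | smul c x _ hx => rw [aK_smul]; exact Submodule.smul_mem _ _ hx

theorem NG.mp' (n : NG t1 t2 ζ g ν) {v : LK} (hv' : v ∈ Mp t1 t2 ζ) : aK g⁻¹ v ∈ Mp t1 t2 ζ := by
  unfold Mp at hv'
  induction hv' using Submodule.span_induction with
  | mem u hu =>
    obtain ⟨a, b, ha, hb, rfl⟩ := hu
    rw [aK_brK]
    exact Submodule.subset_span ⟨_, _, n.m' a ha, n.m' b hb, rfl⟩
  | zero => rw [aK_zero]; exact zero_mem _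
  | add x y _ _ hx hy => rw [aK_add]; exact add_mem hx hy
  | smul c x _ hx => rw [aK_smul]; exact Submodule.smul_mem _ _ hx

/-- the action on `t` -/
theorem NG.exists_y (h : EF t1 t2 ζ) (n : NG t1 t2 ζ g ν) (x : Fin 4 → KK) : ∃ y, aK g (hx x) = hx y :=
  h.exists_hx (n.tz (h.hx_mem x))

theorem NG.exists_x (h : EF t1 t2 ζ) (n : NG t1 t2 ζ g ν) (y : Fin 4 → KK) : ∃ x, aK g (hx x) = hx y := by
  obtain ⟨x, hx'⟩ := h.exists_hx (n.tz' (h.hx_mem y))
  exact ⟨x, by rw [← hx', aK_inv_r]⟩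

theorem NG.Z2y (h : EF t1 t2 ζ) (n : NG t1 t2 ζ g ν) {x y : Fin 4 → KK} (e : aK g (hx x) = hx y) (h0 : x 0 = 0)
    (h1 : x 1 = 0) : y 0 = 0 ∧ y 1 = 0 :=
  h.Z2_of (by rw [← e]; exact n.mp (h.Z2_mem h0 h1))

theorem NG.Z2x (h : EF t1 t2 ζ) (n : NG t1 t2 ζ g ν) {x y : Fin 4 → KK} (e : aK g (hx x) = hx y) (h0 : y 0 = 0)
    (h1 : y 1 = 0) : x 0 = 0 ∧ x 1 = 0 :=
  h.Z2_of (by
    have e2 : hx x = aK g⁻¹ (hx y) := by rw [← e, aK_inv_l]
    rw [e2]; exact n.mp' (h.Z2_mem h0 h1))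

theorem lam_Z2 (X : Fin 3) (w w' : Fin 8) {x : Fin 4 → KK} (h0 : x 0 = 0) (h1 : x 1 = 0) : lam X w x = lam X w' x := by
  have tab : ∀ X w w', PT X w 2 = PT X w' 2 ∧ PT X w 3 = PT X w' 3 := by decide +kernel
  unfold lam
  rw [Fin.sum_univ_four, Fin.sum_univ_four, h0, h1, (tab X w w').1, (tab X w w').2]
  simp only [_root_.Fin.isValue, _root_.MulZeroClass.zero_mul, _root_.add_zero, _root_.zero_add]

/-- an element of the algebra acts on the image with the same weight -/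
theorem coord {X : Fin 3} {w : Fin 8} {v : LK} (hv' : IX X w v) {x y : Fin 4 → KK}
    (e : aK g (hx x) = hx y) {s : Fin chevE8.nroots} (hs : aK g v (Sum.inr s) ≠ 0) :
    ∑ m, y m * ((pm m s : ℤ) : KK) = lam X w x := by
  have e1 : brK (hx y) (aK g v) = lam X w x • aK g v := by
    rw [← e, ← aK_brK, hv'.br, aK_smul]
  have e2 := congrFun e1 (Sum.inr s)
  rw [br_hx, Pi.smul_apply, smul_eq_mul] at e2
  exact mul_right_cancel₀ hs e2

/-- the image of a vector of a module has its coordinates in the modules with the character `ν w` -/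
theorem NG.sup (h : EF t1 t2 ζ) (n : NG t1 t2 ζ g ν) {X : Fin 3} {w : Fin 8} {v : LK} (hv' : IX X w v)
    {s : Fin chevE8.nroots} (hs : aK g v (Sum.inr s) ≠ 0) : ∃ Y k, (s : ℕ) = _root_.Cfsg.Agent.H251.L34.mt Y (ν w) k := by
  have hV := n.w w v (h.ix hv')
  obtain ⟨e1, e3⟩ := h.root hV hs
  rcases root_cases (slt s) with ⟨b, hb⟩ | ⟨Y, w', k, hk⟩ | ⟨w', i, hi⟩
  · exfalso
    obtain ⟨f1, f3⟩ := val_dr b
    rw [← hb] at f1 f3
    exact cab_ne (ν w) (e1.symm.trans f1) (e3.symm.trans f3)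
  · obtain ⟨f1, f3⟩ := val_mt Y w' k
    rw [← hk] at f1 f3
    have : w' = ν w := cab_inj _ _ (f1.symm.trans e1) (f3.symm.trans e3)
    exact ⟨Y, k, by rw [← this]; exact hk⟩
  · exfalso
    have hz : ∀ x : Fin 4 → KK, x 0 = 0 → x 1 = 0 → lam X w x = 0 := by
      intro x h0 h1
      obtain ⟨y, e⟩ := n.exists_y h x
      obtain ⟨y0, y1⟩ := n.Z2y h e h0 h1
      rw [← coord hv' e hs, Fin.sum_univ_four, y0, y1, hi, cast_even (pm_dp w' i).1, cast_even (pm_dp w' i).2]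
      ring
    have q2 := hz ![0, 0, 1, 0] rfl rfl
    have q3 := hz ![0, 0, 0, 1] rfl rfl
    unfold lam at q2 q3
    rw [Fin.sum_univ_four] at q2 q3
    simp only [_root_.Fin.isValue, _root_.Matrix.cons_val_zero, _root_.MulZeroClass.zero_mul, _root_.Matrix.cons_val_one, _root_.add_zero, _root_.Matrix.cons_val, _root_.one_mul, _root_.zero_add] at q2 q3
    have tab : ∀ X w, PT X w 2 = 1 ∨ PT X w 3 = 1 := by decide +kernel
    rcases tab X w with q | q
    · rw [q] at q2; simp at q2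
    · rw [q] at q3; simp at q3

theorem EF.nocart (h : EF t1 t2 ζ) {w : Fin 8} {v : LK} (hV : VV t1 t2 ζ (ca w) (cb w) v) (i : Fin chevE8.rank) :
    v (Sum.inl i) = 0 := by
  by_contra hi
  obtain ⟨e1, e2⟩ := h.cart hV hi
  exact cab_ne w e1 e2

/-- the type of the image -/
def RX (g : ↥(chevE8.group KK)) (X Y : Fin 3) : Prop :=
  ∀ x y : Fin 4 → KK, x 0 = 0 → x 1 = 0 → aK g (hx x) = hx y → lam Y 0 y = lam X 0 x

theorem NG.exists_RX (h : EF t1 t2 ζ) (n : NG t1 t2 ζ g ν) (X : Fin 3) : ∃ Y, RX g X Y := by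
  have hne : aK g (er (_root_.Cfsg.Agent.H251.L34.mt X 0 0)) ≠ 0 := by
    intro h0
    have := congrArg (aK g⁻¹) h0
    rw [aK_inv_l, aK_zero] at this
    exact er_ne (mt_lt X 0 0) this
  obtain ⟨j, hj⟩ := Function.ne_iff.1 hne
  have hV := n.w 0 _ (h.ix (IX_er X 0 0))
  rcases j with i | s
  · exact absurd (h.nocart hV i) hj
  · obtain ⟨Y, k, hk⟩ := n.sup h (IX_er X 0 0) hj
    refine ⟨Y, fun x y h0 h1 e => ?_⟩
    have q := coord (IX_er X 0 0) e hj
    rw [hk, sum_pm] at q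
    obtain ⟨y0, y1⟩ := n.Z2y h e h0 h1
    rw [← q, lam_Z2 Y (ν 0) 0 y0 y1]

theorem NG.RX_unique (h : EF t1 t2 ζ) (n : NG t1 t2 ζ g ν) {X Y Y' : Fin 3} (r : RX g X Y) (r' : RX g X Y') : Y = Y' := by
  have key : ∀ y : Fin 4 → KK, y 0 = 0 → y 1 = 0 → lam Y 0 y = lam Y' 0 y := by
    intro y h0 h1
    obtain ⟨x, e⟩ := n.exists_x h y
    obtain ⟨x0, x1⟩ := n.Z2x h e h0 h1
    rw [r x y x0 x1 e, r' x y x0 x1 e]
  have q2 := key ![0, 0, 1, 0] rfl rfl
  have q3 := key ![0, 0, 0, 1] rfl rfl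
  unfold lam at q2 q3
  rw [Fin.sum_univ_four, Fin.sum_univ_four] at q2 q3
  simp only [_root_.Fin.isValue, _root_.Matrix.cons_val_zero, _root_.MulZeroClass.zero_mul, _root_.Matrix.cons_val_one, _root_.add_zero, _root_.Matrix.cons_val, _root_.one_mul, _root_.zero_add] at q2 q3
  have tab : ∀ Y Y' : Fin 3, (PT Y 0 2 = PT Y' 0 2 ∨ (PT Y 0 2 - PT Y' 0 2) % 2 ≠ 0) ∧ (PT Y 0 3 = PT Y' 0 3 ∨
      (PT Y 0 3 - PT Y' 0 3) % 2 ≠ 0) ∧ (PT Y 0 2 = PT Y' 0 2 → PT Y 0 3 = PT Y' 0 3 → Y = Y') := by decide +kernel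
  obtain ⟨a1, a2, a3⟩ := tab Y Y'
  have odd : ∀ a b : ℤ, (a - b) % 2 ≠ 0 → (a : KK) = b → False := by
    intro a b hab e
    have e2 := cast_odd hab
    rw [Int.cast_sub, e, sub_self] at e2
    exact zero_ne_one e2
  exact a3 (a1.resolve_right fun hc => odd _ _ hc q2) (a2.resolve_right fun hc => odd _ _ hc q3)

/-- the images of the modules, first form -/
theorem NG.keep0 (h : EF t1 t2 ζ) (n : NG t1 t2 ζ g ν) {X Y : Fin 3} (r : RX g X Y) {w : Fin 8} {v : LK} (hv' : IX X w v) :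
    IX Y (ν w) (aK g v) := by
  refine ⟨h.nocart (n.w w _ (h.ix hv')), fun s hs => ?_⟩
  obtain ⟨Y', k, hk⟩ := n.sup h hv' hs
  have r' : RX g X Y' := by
    intro x y h0 h1 e
    have q := coord hv' e hs
    rw [hk, sum_pm] at q
    obtain ⟨y0, y1⟩ := n.Z2y h e h0 h1
    rw [← lam_Z2 Y' (ν w) 0 y0 y1, q, lam_Z2 X w 0 h0 h1]
  rw [n.RX_unique h r r']
  exact ⟨k, hk⟩

/-- the weights of the images -/
theorem NG.lam_eq (h : EF t1 t2 ζ) (n : NG t1 t2 ζ g ν) {X Y : Fin 3} (r : RX g X Y) (w : Fin 8) {x y : Fin 4 → KK}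
    (e : aK g (hx x) = hx y) : lam Y (ν w) y = lam X w x := by
  have hne : aK g (er (_root_.Cfsg.Agent.H251.L34.mt X w 0)) ≠ 0 := by
    intro h0
    have := congrArg (aK g⁻¹) h0
    rw [aK_inv_l, aK_zero] at this
    exact er_ne (mt_lt X w 0) this
  obtain ⟨j, hj⟩ := Function.ne_iff.1 hne
  have hI := n.keep0 h r (IX_er X w 0)
  rcases j with i | s
  · exact absurd (hI.1 i) hj
  · obtain ⟨k, hk⟩ := hI.2 s hj
    have q := coord (IX_er X w 0) e hj
    rw [hk, sum_pm] at q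
    exact q

/-- the orientation condition -/
def OR (ν : Fin 8 → Fin 8) : Prop :=
  ∀ p0 p1 p2 : Fin 3, (∀ m : Fin 4, (PT p0 (ν 0) m + PT p1 (ν 2) m + PT p2 (ν 3) m) % 2 = 0) → p1 = p0 + 1 ∧ p2 = p0 + 2

theorem rel0 (m : Fin 4) : (PT 0 0 m + PT 1 2 m + PT 2 3 m) % 2 = 0 := by revert m; decide +kernel

/-- the types are shifted -/
theorem NG.shift (h : EF t1 t2 ζ) (n : NG t1 t2 ζ g ν) (ho : OR ν) : ∃ a : Fin 3, ∀ X, RX g X (X + a) := by
  obtain ⟨p0, r0⟩ := n.exists_RX h 0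
  obtain ⟨p1, r1⟩ := n.exists_RX h 1
  obtain ⟨p2, r2⟩ := n.exists_RX h 2
  have key : ∀ m : Fin 4, (PT p0 (ν 0) m + PT p1 (ν 2) m + PT p2 (ν 3) m) % 2 = 0 := by
    intro m
    obtain ⟨x, e⟩ := n.exists_x h (Pi.single m 1)
    have q0 := n.lam_eq h r0 0 e
    have q1 := n.lam_eq h r1 2 e
    have q2 := n.lam_eq h r2 3 e
    have hl : ∀ X w, lam X w (Pi.single m 1) = ((PT X w m : ℤ) : KK) := by
      intro X w
      unfold lam
      rw [Finset.sum_eq_single m]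
      · rw [Pi.single_eq_same, one_mul]
      · intro b _ hb
        rw [Pi.single_eq_of_ne hb, zero_mul]
      · intro h; exact absurd (Finset.mem_univ _) h
    have hs : lam 0 0 x + lam 1 2 x + lam 2 3 x = 0 := by
      unfold lam
      rw [← Finset.sum_add_distrib, ← Finset.sum_add_distrib]
      refine Finset.sum_eq_zero fun i _ => ?_
      have e3 := cast_even (rel0 i)
      push_cast at e3
      rw [← mul_add, ← mul_add, e3, mul_zero]
    by_contra hc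
    have e4 := cast_odd hc
    push_cast at e4
    rw [← hl, ← hl, ← hl, q0, q1, q2, hs] at e4
    exact zero_ne_one e4
  obtain ⟨a1, a2⟩ := ho p0 p1 p2 key
  refine ⟨p0, fun X => ?_⟩
  fin_cases X
  · show RX g 0 (0 + p0)
    rw [zero_add]; exact r0
  · show RX g 1 (1 + p0)
    rw [add_comm, ← a1]; exact r1
  · show RX g 2 (2 + p0)
    rw [add_comm, ← a2]; exact r2

/-- **the types are preserved** -/
theorem NG.rx (h : EF t1 t2 ζ) (n : NG t1 t2 ζ g ν) (ho : OR ν) (h4 : g ^ 4 = 1) (X : Fin 3) : RX g X X := by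
  obtain ⟨a, ha⟩ := n.shift h ho
  have k1 := n.keep0 h (ha 0) (IX_er 0 0 0)
  have k2 := n.keep0 h (ha _) k1
  have k3 := n.keep0 h (ha _) k2
  have k4 := n.keep0 h (ha _) k3
  have e4 : aK g (aK g (aK g (aK g (er (mt 0 0 0))))) = er (mt 0 0 0) := by
    rw [← aK_mul', ← aK_mul', ← aK_mul']
    have : g * g * g * g = 1 := by rw [← h4]; simp only [pow_succ, pow_zero, one_mul]
    rw [this, aK_one']
  rw [e4] at k4
  have hne : er (mt 0 0 0) (Sum.inr ⟨mt 0 0 0, by rw [nr]; exact mt_lt 0 0 0⟩) ≠ 0 := by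
    rw [er_inr, if_pos rfl]; exact one_ne_zero
  obtain ⟨k, hk⟩ := k4.2 _ hne
  obtain ⟨q, -, -⟩ := mt_inj 0 0 0 _ _ _ hk
  have ha0 : ∀ a : Fin 3, 0 = 0 + a + a + a + a → a = 0 := by decide
  have := ha X
  rwa [ha0 a q, add_zero] at this

/-- **the modules are permuted** -/
theorem NG.keep (h : EF t1 t2 ζ) (n : NG t1 t2 ζ g ν) (ho : OR ν) (h4 : g ^ 4 = 1) {X : Fin 3} {w : Fin 8} {v : LK}
    (hv' : IX X w v) : IX X (ν w) (aK g v) := n.keep0 h (n.rx h ho h4 X) hv'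

theorem NG.lam_keep (h : EF t1 t2 ζ) (n : NG t1 t2 ζ g ν) (ho : OR ν) (h4 : g ^ 4 = 1) (X : Fin 3) (w : Fin 8)
    {x y : Fin 4 → KK} (e : aK g (hx x) = hx y) : lam X (ν w) y = lam X w x := n.lam_eq h (n.rx h ho h4 X) w e

theorem lam_ext {x y : Fin 4 → KK} (h : ∀ X w, lam X w x = lam X w y) : x = y := by
  have q1 := h 0 0
  have q2 := h 1 0
  have q3 := h 0 2
  have q4 := h 0 3
  unfold lam at q1 q2 q3 q4
  rw [Fin.sum_univ_four, Fin.sum_univ_four] at q1 q2 q3 q4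
  simp only [PT, _root_.Fin.isValue, _root_.Matrix.cons_val', _root_.Matrix.cons_val_zero, _root_.Matrix.cons_val_fin_one, _root_.Int.cast_zero, _root_.MulZeroClass.mul_zero, _root_.Matrix.cons_val_one, _root_.Int.cast_one, _root_.mul_one, _root_.zero_add, _root_.Matrix.cons_val, _root_.add_zero] at q1 q2 q3 q4
  rw [q4] at q1 q3
  have e1 := add_right_cancel q1
  have e3 := add_right_cancel q3
  funext m
  fin_cases m
  · exact e3
  · exact e1
  · exact q2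
  · exact q4

/-- the action on `Z2` is trivial -/
theorem NG.fix_Z2 (h : EF t1 t2 ζ) (n : NG t1 t2 ζ g ν) (ho : OR ν) (h4 : g ^ 4 = 1) {x : Fin 4 → KK} (h0 : x 0 = 0)
    (h1 : x 1 = 0) : aK g (hx x) = hx x := by
  obtain ⟨y, e⟩ := n.exists_y h x
  obtain ⟨y0, y1⟩ := n.Z2y h e h0 h1
  rw [e]
  congr 1
  refine lam_ext fun X w => ?_
  rw [lam_Z2 X w (ν w) y0 y1]
  exact n.lam_keep h ho h4 X w e

/-- the action of an element inverting `E` on `t` is trivial -/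
theorem NG.fix_t (h : EF t1 t2 ζ) (n : NG t1 t2 ζ g nw) (r : ∀ X, RX g X X) (x : Fin 4 → KK) : aK g (hx x) = hx x := by
  obtain ⟨y, e⟩ := n.exists_y h x
  rw [e]
  congr 1
  refine lam_ext fun X w => ?_
  have tab : ∀ X w, PT X (nw w) = PT X w := by decide +kernel
  have q := n.lam_eq h (r X) w e
  unfold lam at q ⊢
  rw [tab] at q
  exact q

end Cfsg.Agent.H942.DF

private theorem dce_dc7cf12487ac : _root_.True := by
  try have : _root_.True := by simp only [_root_.Cfsg.Agent.H942.DF.PT.eq_1]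
  exact _root_.True.intro
end

-- part: H942/DF/Perm
section
prune_inst 0x400000000018000000002004480001000063000111400100000a5340a00507011c901a0080103e4060080000000001300020000020003c004002000008a8000430400000420007008000000000000000000000000000000000041000000000000
set_option linter.all false
open scoped Cfsg.Agent.FastGrp

/-!
# S5917, type D: rows PERM and FIXZ for `i`, `j`, `z` and the Frobenius (helper942)

`g t1 g⁻¹ = t2`, `g t2 g⁻¹ = t1⁻¹` (`i`), `g t1 g⁻¹ = t1 t2`, `g t2 g⁻¹ = t1 t2⁻¹` (`j`), `g t g⁻¹ = t⁻¹` (`z`, Frobenius).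
-/

set_option autoImplicit false
set_option maxRecDepth 100000

namespace Cfsg.Agent.H942.DF

open Cfsg Cfsg.Lie Cfsg.Lie.ChevalleyDatum
open Cfsg.Agent.ChevalleyStructure Cfsg.Agent.ChevalleyStructure.LieAbs Cfsg.Agent.ChevalleyStructure.LieAut
open Cfsg.Agent.H939.L64 Cfsg.Agent.H413.L16 Cfsg.Agent.H201.L34 Cfsg.Agent.H251.L34
open Cfsg.Agent.H876.L64
open Cfsg.Agent.H413.L64 (charKK pow_val pow_inj_val)

/-- the permutation of the characters by `i` -/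
def nui : Fin 8 → Fin 8 := ![5, 2, 0, 6, 3, 1, 7, 4]

/-- the permutation of the characters by `j` -/
def nuj : Fin 8 → Fin 8 := ![6, 4, 7, 2, 0, 3, 1, 5]

theorem OR_i : OR nui := by unfold OR; decide +kernel

theorem OR_j : OR nuj := by unfold OR; decide +kernel

theorem OR_z : OR nw := by unfold OR; decide +kernel

theorem nui_ab : ∀ w, ca (nui w) = -cb w ∧ cb (nui w) = ca w := by decide +kernel

theorem nuj_ab : ∀ w, ca (nuj w) = 2 * (ca w + cb w) ∧ cb (nuj w) = 2 * ca w + cb w := by decide +kernel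

theorem nw_ab : ∀ w, ca (nw w) = -ca w ∧ cb (nw w) = -cb w := by decide +kernel

theorem nui_nui : ∀ w, nui (nui w) = nw w := by decide +kernel

theorem nuj_nuj : ∀ w, nuj (nuj w) = nw w := by decide +kernel

variable {t1 t2 : ↥(chevE8.group KK)} {ζ : KK} {g : ↥(chevE8.group KK)}

theorem VV00 {v : LK} : VV t1 t2 ζ 0 0 v ↔ aK t1 v = v ∧ aK t2 v = v := by
  unfold VV
  rw [ZMod.val_zero, pow_zero, one_smul]

theorem fix_inv {t : ↥(chevE8.group KK)} {v : LK} (h : aK t v = v) : aK t⁻¹ v = v := by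
  conv_lhs => rw [← h]
  exact aK_inv_l t v

/-- transport of fixed vectors -/
theorem fix_pull {g t u : ↥(chevE8.group KK)} (h : g * t * g⁻¹ = u) {v : LK} (hv' : aK u v = v) :
    aK t (aK g⁻¹ v) = aK g⁻¹ v := by
  have e : t * g⁻¹ = g⁻¹ * u := by rw [← h]; group
  rw [← aK_mul', e, aK_mul', hv']

/-- transport of eigenvectors, in coordinates -/
theorem push {g t u : ↥(chevE8.group KK)} (h : g * t * g⁻¹ = u) {c : KK} {v : LK} (hv' : aK t v = c • v) :
    aK u (aK g v) = c • aK g v := by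
  have e : u * g = g * t := by rw [← h]; group
  rw [← aK_mul', e, aK_mul', hv', aK_smul]

theorem EF.ci1 (h : EF t1 t2 ζ) (v : LK) (s : Fin chevE8.nroots) :
    aK t1⁻¹ v (Sum.inr s) = ζ ^ (-w1 s).val * v (Sum.inr s) := by
  have e := congrFun (aK_inv_r t1 v) (Sum.inr s)
  rw [h.c1] at e
  rw [← e, ← mul_assoc, ← pow_add, pow_val h.hζ]
  have : (((-w1 s).val + (w1 s).val : ℕ) : ZMod 3) = 0 := by
    push_cast
    rw [ZMod.natCast_zmod_val, ZMod.natCast_zmod_val]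
    ring
  rw [this, ZMod.val_zero, pow_zero, one_mul]

theorem EF.ci2 (h : EF t1 t2 ζ) (v : LK) (s : Fin chevE8.nroots) :
    aK t2⁻¹ v (Sum.inr s) = ζ ^ (-w3 s).val * v (Sum.inr s) := by
  have e := congrFun (aK_inv_r t2 v) (Sum.inr s)
  rw [h.c2] at e
  rw [← e, ← mul_assoc, ← pow_add, pow_val h.hζ]
  have : (((-w3 s).val + (w3 s).val : ℕ) : ZMod 3) = 0 := by
    push_cast
    rw [ZMod.natCast_zmod_val, ZMod.natCast_zmod_val]
    ring
  rw [this, ZMod.val_zero, pow_zero, one_mul]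

theorem EF.li1 (h : EF t1 t2 ζ) (v : LK) (i : Fin chevE8.rank) : aK t1⁻¹ v (Sum.inl i) = v (Sum.inl i) := by
  have e := congrFun (aK_inv_r t1 v) (Sum.inl i)
  rwa [h.l1] at e

theorem EF.li2 (h : EF t1 t2 ζ) (v : LK) (i : Fin chevE8.rank) : aK t2⁻¹ v (Sum.inl i) = v (Sum.inl i) := by
  have e := congrFun (aK_inv_r t2 v) (Sum.inl i)
  rwa [h.l2] at e

theorem EF.pw (h : EF t1 t2 ζ) {a b : ZMod 3} {x : KK} (hx' : x ≠ 0) (e : ζ ^ a.val * x = ζ ^ b.val * x) : a = b :=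
  (pow_inj_val h.hζ).1 (mul_right_cancel₀ hx' e)

theorem EF.pw0 (h : EF t1 t2 ζ) {b : ZMod 3} {x : KK} (hx' : x ≠ 0) (e : x = ζ ^ b.val * x) : b = 0 := by
  refine (h.pw hx' (a := 0) (b := b) ?_).symm
  rw [ZMod.val_zero, pow_zero, one_mul]
  exact e

theorem EF.pp (h : EF t1 t2 ζ) (a b : ZMod 3) : ζ ^ a.val * ζ ^ b.val = ζ ^ (a + b).val := by
  have e : ((a.val + b.val : ℕ) : ZMod 3) = a + b := by
    push_cast
    rw [ZMod.natCast_zmod_val, ZMod.natCast_zmod_val]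
  rw [← pow_add, pow_val h.hζ, e]

/-- **`i`** -/
theorem EF.NG_i (h : EF t1 t2 ζ) (h1 : g * t1 * g⁻¹ = t2) (h2 : g * t2 * g⁻¹ = t1⁻¹) : NG t1 t2 ζ g nui := by
  have key : ∀ a b v, VV t1 t2 ζ a b v → VV t1 t2 ζ (-b) a (aK g v) := by
    intro a b v hv'
    have e1 := push h1 hv'.1
    have e2 := push h2 hv'.2
    refine h.of (fun i hi => ?_) (fun s hs => ?_)
    · have f1 := congrFun e1 (Sum.inl i)
      have f2 := congrFun e2 (Sum.inl i)
      rw [h.l2, Pi.smul_apply, smul_eq_mul] at f1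
      rw [h.li1, Pi.smul_apply, smul_eq_mul] at f2
      rw [h.pw0 hi f1, h.pw0 hi f2]
      exact ⟨neg_zero, rfl⟩
    · have f1 := congrFun e1 (Sum.inr s)
      have f2 := congrFun e2 (Sum.inr s)
      rw [h.c2, Pi.smul_apply, smul_eq_mul] at f1
      rw [h.ci1, Pi.smul_apply, smul_eq_mul] at f2
      exact ⟨by rw [← h.pw hs f2, neg_neg], h.pw hs f1⟩
  refine ⟨fun v hv' => ?_, fun v hv' => ?_, fun w v hv' => ?_⟩
  · have := key 0 0 v hv'
    rwa [neg_zero] at this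
  · rw [VV00] at hv' ⊢
    exact ⟨fix_pull h1 hv'.2, fix_pull h2 (fix_inv hv'.1)⟩
  · obtain ⟨q1, q2⟩ := nui_ab w
    rw [q1, q2]
    exact key _ _ v hv'

/-- **`j`** -/
theorem EF.NG_j (h : EF t1 t2 ζ) (h1 : g * t1 * g⁻¹ = t1 * t2) (h2 : g * t2 * g⁻¹ = t1 * t2⁻¹) : NG t1 t2 ζ g nuj := by
  have alg : ∀ a b x y : ZMod 3, x + y = a → x + -y = b → x = 2 * (a + b) ∧ y = 2 * a + b := by decide
  have key : ∀ a b v, VV t1 t2 ζ a b v → VV t1 t2 ζ (2 * (a + b)) (2 * a + b) (aK g v) := by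
    intro a b v hv'
    have e1 := push h1 hv'.1
    have e2 := push h2 hv'.2
    rw [aK_mul'] at e1 e2
    refine h.of (fun i hi => ?_) (fun s hs => ?_)
    · have f1 := congrFun e1 (Sum.inl i)
      have f2 := congrFun e2 (Sum.inl i)
      rw [h.l1, h.l2, Pi.smul_apply, smul_eq_mul] at f1
      rw [h.l1, h.li2, Pi.smul_apply, smul_eq_mul] at f2
      rw [h.pw0 hi f1, h.pw0 hi f2]
      exact ⟨by ring, by ring⟩
    · have f1 := congrFun e1 (Sum.inr s)
      have f2 := congrFun e2 (Sum.inr s)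
      rw [h.c1, h.c2, ← mul_assoc, h.pp, Pi.smul_apply, smul_eq_mul] at f1
      rw [h.c1, h.ci2, ← mul_assoc, h.pp, Pi.smul_apply, smul_eq_mul] at f2
      exact alg _ _ _ _ (h.pw hs f1) (h.pw hs f2)
  refine ⟨fun v hv' => ?_, fun v hv' => ?_, fun w v hv' => ?_⟩
  · have := key 0 0 v hv'
    rwa [add_zero, mul_zero, add_zero] at this
  · rw [VV00] at hv' ⊢
    refine ⟨fix_pull h1 ?_, fix_pull h2 ?_⟩
    · rw [aK_mul', hv'.2, hv'.1]
    · rw [aK_mul', fix_inv hv'.2, hv'.1]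
  · obtain ⟨q1, q2⟩ := nuj_ab w
    rw [q1, q2]
    exact key _ _ v hv'

/-- **`z` and the Frobenius** -/
theorem EF.NG_z (h : EF t1 t2 ζ) (h1 : g * t1 * g⁻¹ = t1⁻¹) (h2 : g * t2 * g⁻¹ = t2⁻¹) : NG t1 t2 ζ g nw := by
  have key : ∀ a b v, VV t1 t2 ζ a b v → VV t1 t2 ζ (-a) (-b) (aK g v) := by
    intro a b v hv'
    have e1 := push h1 hv'.1
    have e2 := push h2 hv'.2
    refine h.of (fun i hi => ?_) (fun s hs => ?_)
    · have f1 := congrFun e1 (Sum.inl i)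
      have f2 := congrFun e2 (Sum.inl i)
      rw [h.li1, Pi.smul_apply, smul_eq_mul] at f1
      rw [h.li2, Pi.smul_apply, smul_eq_mul] at f2
      rw [h.pw0 hi f1, h.pw0 hi f2]
      exact ⟨neg_zero, neg_zero⟩
    · have f1 := congrFun e1 (Sum.inr s)
      have f2 := congrFun e2 (Sum.inr s)
      rw [h.ci1, Pi.smul_apply, smul_eq_mul] at f1
      rw [h.ci2, Pi.smul_apply, smul_eq_mul] at f2
      exact ⟨by rw [← h.pw hs f1, neg_neg], by rw [← h.pw hs f2, neg_neg]⟩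
  refine ⟨fun v hv' => ?_, fun v hv' => ?_, fun w v hv' => ?_⟩
  · have := key 0 0 v hv'
    rwa [neg_zero] at this
  · rw [VV00] at hv' ⊢
    exact ⟨fix_pull h1 (fix_inv hv'.1), fix_pull h2 (fix_inv hv'.2)⟩
  · obtain ⟨q1, q2⟩ := nw_ab w
    rw [q1, q2]
    exact key _ _ v hv'

/-! ### the rows -/

/-- **PERM for `i`** -/
theorem EF.perm_i (h : EF t1 t2 ζ) (h1 : g * t1 * g⁻¹ = t2) (h2 : g * t2 * g⁻¹ = t1⁻¹) (h4 : g ^ 4 = 1) {X : Fin 3}
    {w : Fin 8} {v : LK} (hv' : IX X w v) : IX X (nui w) (aK g v) := (h.NG_i h1 h2).keep h OR_i h4 hv'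

/-- **PERM for `j`** -/
theorem EF.perm_j (h : EF t1 t2 ζ) (h1 : g * t1 * g⁻¹ = t1 * t2) (h2 : g * t2 * g⁻¹ = t1 * t2⁻¹) (h4 : g ^ 4 = 1)
    {X : Fin 3} {w : Fin 8} {v : LK} (hv' : IX X w v) : IX X (nuj w) (aK g v) := (h.NG_j h1 h2).keep h OR_j h4 hv'

/-- **PERM for `z`** -/
theorem EF.perm_z (h : EF t1 t2 ζ) (h1 : g * t1 * g⁻¹ = t1⁻¹) (h2 : g * t2 * g⁻¹ = t2⁻¹) (h4 : g ^ 4 = 1)
    {X : Fin 3} {w : Fin 8} {v : LK} (hv' : IX X w v) : IX X (nw w) (aK g v) := (h.NG_z h1 h2).keep h OR_z h4 hv'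

/-- **FIXZ for `i`** : `Z2 = {hx x | x 0 = x 1 = 0}` is fixed -/
theorem EF.fixZ_i (h : EF t1 t2 ζ) (h1 : g * t1 * g⁻¹ = t2) (h2 : g * t2 * g⁻¹ = t1⁻¹) (h4 : g ^ 4 = 1)
    {x : Fin 4 → KK} (x0 : x 0 = 0) (x1 : x 1 = 0) : aK g (hx x) = hx x := (h.NG_i h1 h2).fix_Z2 h OR_i h4 x0 x1

/-- **FIXZ for `j`** -/
theorem EF.fixZ_j (h : EF t1 t2 ζ) (h1 : g * t1 * g⁻¹ = t1 * t2) (h2 : g * t2 * g⁻¹ = t1 * t2⁻¹) (h4 : g ^ 4 = 1)
    {x : Fin 4 → KK} (x0 : x 0 = 0) (x1 : x 1 = 0) : aK g (hx x) = hx x := (h.NG_j h1 h2).fix_Z2 h OR_j h4 x0 x1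

/-- `z` is trivial on `t` -/
theorem EF.fix_tz (h : EF t1 t2 ζ) (h1 : g * t1 * g⁻¹ = t1⁻¹) (h2 : g * t2 * g⁻¹ = t2⁻¹) (h4 : g ^ 4 = 1)
    (x : Fin 4 → KK) : aK g (hx x) = hx x := (h.NG_z h1 h2).fix_t h (fun X => (h.NG_z h1 h2).rx h OR_z h4 X) x

end Cfsg.Agent.H942.DF
end

-- part: H942/DF/Frob
section
prune_inst 0x1800000000200448000100006300001000010000061140200107014c80180080001a402000000000000110000000000000380000000000000800040000a000420001000000000000000000000000000000000000041000000000000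
set_option linter.all false
open scoped Cfsg.Agent.FastGrp

/-!
# S5917, type D: the Frobenius and the types of the 8-dimensional modules, row E2a (helper942)

`gF = z0⁻¹ φ(z0)`, `F' v = aK gF (fr v)`.
* `phi_t`, `gF_t` : `gF t gF⁻¹ = t⁻¹`;
* `frob_shift` : there is `a` with: `F'` maps the module `(X, w)` to the module `(X + a, nw w)`.
-/

set_option autoImplicit false
set_option maxRecDepth 100000

namespace Cfsg.Agent.H942.DF

open Cfsg Cfsg.Lie Cfsg.Lie.ChevalleyDatum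
open Cfsg.Agent.ChevalleyStructure Cfsg.Agent.ChevalleyStructure.LieAbs Cfsg.Agent.ChevalleyStructure.LieAut
open Cfsg.Agent.H939.L64 Cfsg.Agent.H413.L16 Cfsg.Agent.H201.L34 Cfsg.Agent.H251.L34
open Cfsg.Agent.H876.L64
open Cfsg.Agent.H413.L64 (charKK pow_val pow_inj_val)
open Cfsg.Agent.H129.TorusUntw (phi)
open Cfsg.Agent.BpExc.RowsUntw (e8T)

variable {t1 t2 : ↥(chevE8.group KK)} {ζ : KK} {g : ↥(chevE8.group KK)}

theorem fr_smul (c : KK) (v : LK) : fr (c • v) = c ^ 2 • fr v := by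
  funext i
  show (c * v i) ^ 2 = c ^ 2 * v i ^ 2
  ring

theorem EF.er1 (h : EF t1 t2 ζ) {s : ℕ} : aK t1 (er s) = ζ ^ (w1 s).val • er s := by
  funext j
  rw [Pi.smul_apply, smul_eq_mul]
  rcases j with i | u
  · rw [h.l1, er_inl, mul_zero]
  · rw [h.c1, er_inr]
    by_cases e : s = u
    · rw [if_pos e, e]
    · rw [if_neg e, mul_zero, mul_zero]

theorem EF.er2 (h : EF t1 t2 ζ) {s : ℕ} : aK t2 (er s) = ζ ^ (w3 s).val • er s := by
  funext j
  rw [Pi.smul_apply, smul_eq_mul]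
  rcases j with i | u
  · rw [h.l2, er_inl, mul_zero]
  · rw [h.c2, er_inr]
    by_cases e : s = u
    · rw [if_pos e, e]
    · rw [if_neg e, mul_zero, mul_zero]

theorem phi_eq {t : ↥(chevE8.group KK)} {f : ℕ → KK} (h : ∀ s < 240, aK t (er s) = f s • er s) :
    phi chevE8 KK 2 1 t = t * t := by
  refine eq_of_er fun s hs => ?_
  have e := congrArg fr (h s hs)
  rw [fr_aK, fr_er, fr_smul, fr_er] at e
  rw [e, aK_mul', h s hs, aK_smul, h s hs, smul_smul]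
  congr 1
  ring

theorem cube_eq (h3 : ζ ^ 3 = 1) {t : ↥(chevE8.group KK)} {f : ℕ → ℕ} (h : ∀ s < 240, aK t (er s) = ζ ^ f s • er s) :
    t * t * t = 1 := by
  refine eq_of_er fun s hs => ?_
  rw [aK_mul', aK_mul', h s hs, aK_smul, h s hs, aK_smul, aK_smul, h s hs, smul_smul, smul_smul, aK_one']
  have : ζ ^ f s * ζ ^ f s * ζ ^ f s = 1 := by
    rw [← pow_add, ← pow_add, show f s + f s + f s = 3 * f s by ring, pow_mul, h3, one_pow]
  rw [this, one_smul]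

/-- the element of the Frobenius inverts the torus elements -/
theorem gF_t {z0 t e gF : ↥(chevE8.group KK)} (hz : z0⁻¹ * e * z0 = t) (he : phi chevE8 KK 2 1 e = e)
    (hg : z0⁻¹ * phi chevE8 KK 2 1 z0 = gF) (hp : phi chevE8 KK 2 1 t = t * t) (h3 : t * t * t = 1) :
    gF * t * gF⁻¹ = t⁻¹ := by
  have e1 : phi chevE8 KK 2 1 z0 = z0 * gF := by rw [← hg]; group
  have e2 : (z0 * gF)⁻¹ * e * (z0 * gF) = t * t := by
    rw [← hp, ← hz, map_mul, map_mul, map_inv, he, e1]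
  have e3 : gF⁻¹ * t * gF = t * t := by
    rw [← e2, ← hz]; group
  have e4 : t * t = t⁻¹ := eq_inv_of_mul_eq_one_left h3
  rw [e4] at e3
  have e5 : t = gF * t⁻¹ * gF⁻¹ := by rw [← e3]; group
  calc gF * t * gF⁻¹ = (gF * t⁻¹ * gF⁻¹)⁻¹ := by group
    _ = t⁻¹ := by rw [← e5]

theorem EF.NG_F (h : EF t1 t2 ζ) {e1 e2 : E2} {z0 gF : ↥(chevE8.group KK)} (hz1 : z0⁻¹ * em e1 * z0 = t1)
    (hz2 : z0⁻¹ * em e2 * z0 = t2) (hg : z0⁻¹ * phi chevE8 KK 2 1 z0 = gF) : NG t1 t2 ζ gF nw := by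
  have hcard : Nat.card (ZMod 2) = 2 ^ 1 := by simp
  have h3 : ζ ^ 3 = 1 := h.hζ.pow_eq_one
  have hem : ∀ e : E2, phi chevE8 KK 2 1 (em e) = em e := fun e =>
    Cfsg.Agent.H378.TorFin.phi_emb' e8T (algebraMap (ZMod 2) KK) 2 hcard e
  refine h.NG_z (gF_t hz1 (hem e1) hg (phi_eq fun s _ => h.er1) (cube_eq h3 fun s _ => h.er1))
    (gF_t hz2 (hem e2) hg (phi_eq fun s _ => h.er2) (cube_eq h3 fun s _ => h.er2))

theorem IX.fr {X : Fin 3} {w : Fin 8} {v : LK} (h : IX X w v) : IX X w (Cfsg.Agent.H939.L64.fr v) := by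
  refine ⟨fun i => ?_, fun s hs => h.2 s fun h0 => hs ?_⟩
  · show v (Sum.inl i) ^ 2 = 0
    rw [h.1 i]; ring
  · show v (Sum.inr s) ^ 2 = 0
    rw [h0]; ring

/-- coordinates of the toral elements of `Z2` -/
def zc : Fin 3 → Fin 4 → ℤ := ![![0, 0, 1, 0], ![0, 0, 0, 1], ![0, 0, 1, 1]]

/-- the toral element of `Z2` acting as `0` on the modules of type `X` and as `1` on the modules of the other types -/
noncomputable def zX (X : Fin 3) : LK := hx fun m => ((zc X m : ℤ) : KK)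

theorem lam_zc (X Y : Fin 3) (w : Fin 8) : lam Y w (fun m => ((zc X m : ℤ) : KK)) = if Y = X then 0 else 1 := by
  have tab : ∀ X Y w, ((∑ m, zc X m * PT Y w m) - if Y = X then 0 else 1) % 2 = 0 := by decide +kernel
  have e := cast_congr (tab X Y w)
  unfold lam
  push_cast at e
  exact e

theorem NG.zX {ν : Fin 8 → Fin 8} (h : EF t1 t2 ζ) (n : NG t1 t2 ζ g ν) {a : Fin 3} (ha : ∀ X, RX g X (X + a)) (X : Fin 3) :
    aK g (DF.zX X) = DF.zX (X + a) := by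
  unfold DF.zX
  obtain ⟨y, e⟩ := n.exists_y h fun m => ((zc X m : ℤ) : KK)
  have zt : ∀ X, zc X 0 = 0 ∧ zc X 1 = 0 := by decide
  have q0 : (fun m => ((zc X m : ℤ) : KK)) 0 = 0 := by show ((zc X 0 : ℤ) : KK) = 0; rw [(zt X).1, Int.cast_zero]
  have q1 : (fun m => ((zc X m : ℤ) : KK)) 1 = 0 := by show ((zc X 1 : ℤ) : KK) = 0; rw [(zt X).2, Int.cast_zero]
  obtain ⟨y0, y1⟩ := n.Z2y h e q0 q1
  rw [e]
  congr 1
  have key : ∀ Y, lam Y 0 y = lam Y 0 (fun m => ((zc (X + a) m : ℤ) : KK)) := by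
    intro Y
    have r := ha (Y - a) _ y q0 q1 e
    rw [sub_add_cancel] at r
    rw [r, lam_zc, lam_zc]
    by_cases hY : Y - a = X
    · rw [if_pos hY, if_pos (by rw [← hY, sub_add_cancel])]
    · rw [if_neg hY, if_neg fun hc => hY (by rw [hc, add_sub_cancel_right])]
  have k0 := key 0
  have k1 := key 1
  unfold lam at k0 k1
  rw [Fin.sum_univ_four, Fin.sum_univ_four, y0, y1] at k0 k1
  have z0' : ((zc (X + a) 0 : ℤ) : KK) = 0 := by rw [(zt _).1, Int.cast_zero]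
  have z1' : ((zc (X + a) 1 : ℤ) : KK) = 0 := by rw [(zt _).2, Int.cast_zero]
  dsimp only at k0 k1
  rw [z0', z1'] at k0 k1
  simp [PT] at k0 k1
  funext m
  fin_cases m
  · exact y0.trans z0'.symm
  · exact y1.trans z1'.symm
  · exact k1
  · exact k0

theorem fr_zX (X : Fin 3) : Cfsg.Agent.H939.L64.fr (zX X) = zX X := by
  have hch := charKK
  have sq : ∀ a : ℤ, ((a : ℤ) : KK) ^ 2 = a := by
    intro a
    have e := cast_even (a := a ^ 2 - a) (by
      have : a ^ 2 - a = (a - 1) * a := by ring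
      rw [this]
      have := Int.even_mul_pred_self a
      rw [mul_comm]
      exact Int.emod_eq_zero_of_dvd (even_iff_two_dvd.1 this))
    push_cast at e
    exact sub_eq_zero.1 e
  funext j
  rcases j with i | s
  · show (∑ m, ((zc X m : ℤ) : KK) * ((HB m i : ℤ) : KK)) ^ 2 = ∑ m, ((zc X m : ℤ) : KK) * ((HB m i : ℤ) : KK)
    have e : (∑ m, ((zc X m : ℤ) : KK) * ((HB m i : ℤ) : KK)) = ((∑ m, zc X m * HB m i : ℤ) : KK) := by push_cast; rfl
    rw [e]
    exact sq _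
  · show (0 : KK) ^ 2 = 0
    ring

/-- **E2a** -/
theorem EF.frob_shift (h : EF t1 t2 ζ) {e1 e2 : E2} {z0 gF : ↥(chevE8.group KK)} (hz1 : z0⁻¹ * em e1 * z0 = t1)
    (hz2 : z0⁻¹ * em e2 * z0 = t2) (hg : z0⁻¹ * phi chevE8 KK 2 1 z0 = gF) :
    ∃ a : Fin 3, (∀ X, RX gF X (X + a)) ∧
      (∀ X w v, IX X w v → IX (X + a) (nw w) (aK gF (Cfsg.Agent.H939.L64.fr v))) ∧
      ∀ X, aK gF (Cfsg.Agent.H939.L64.fr (zX X)) = zX (X + a) := by
  obtain ⟨a, ha⟩ := (h.NG_F hz1 hz2 hg).shift h OR_z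
  refine ⟨a, ha, fun X w v hv' => (h.NG_F hz1 hz2 hg).keep0 h (ha X) hv'.fr, fun X => ?_⟩
  rw [fr_zX]
  exact (h.NG_F hz1 hz2 hg).zX h ha X

end Cfsg.Agent.H942.DF
end
end
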